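import Cfsg.Agent.Lib.Recognition.SelfCentThree.Basic
import Cfsg.Agent.Lib.SmallGroups.SelfInverse
import Cfsg.Agent.Lib.Char.DihedralCentralizer

/-!
# The three characters not vanishing at `x`, and the two counts
-/

set_option autoImplicit false

open scoped BigOperators ComplexConjugate

namespace CfsgLib.Recognition.SelfCentThree

open Cfsg CfsgLib.Char Subgroup

/-- The elements giving a pair of elements of order three with product `x`. -/
def pairSet {G : Type*} [Group G] (x : G) : Set G :=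
  {a | a ≠ x ∧ a ≠ x⁻¹ ∧ (a * x⁻¹) ^ 3 = 1 ∧ (x * a⁻¹ * x) ^ 3 = 1}

/-- The involutions whose product with `x` has order three. -/
def invSet {G : Type*} [Group G] (x : G) : Set G :=
  {a | a * a = 1 ∧ a ≠ 1 ∧ (a * x) ^ 3 = 1}

variable {G : Type*} [Group G] {x : G}

/-- An involution inverting `x` moves `x` to `x⁻¹`, so all elements of order three are conjugate. -/
theorem Hyp.isConj_of_orderOf [Finite G] (h : Hyp x) {u : G} (hux : u * x * u⁻¹ = x⁻¹) {y : G}
    (hy : orderOf y = 3) : IsConj y x := by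
  obtain ⟨g, -, e | e⟩ := h.conj_of_orderOf (H := ⊤) (mem_top x) (mem_top y) hy
  · exact (isConj_iff.2 ⟨g, e.symm⟩).symm
  · rw [← hux] at e
    exact (isConj_iff.2 ⟨g * u, by rw [e]; group⟩).symm

theorem Hyp.orderOf_of_isConj (h : Hyp x) {y : G} (hy : IsConj y x) : orderOf y = 3 := by
  obtain ⟨g, hg⟩ := isConj_iff.1 hy
  rw [← h.ord, ← hg]
  exact ((MulAut.conj g).orderOf_eq y).symm

section count

variable [Fintype G]

open scoped Classical in
/-- The fibres of conjugation have the order of the centraliser. -/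
theorem sum_conj_apply (s : G) (F : G → ℂ) :
    ∑ h : G, F (h * s * h⁻¹) =
      (Nat.card (centralizer ({s} : Set G)) : ℂ) *
        ∑ p ∈ Finset.univ.filter (fun p => IsConj p s), F p := by
  rw [← Finset.sum_fiberwise_of_maps_to (g := fun h : G => h * s * h⁻¹)
    (t := Finset.univ.filter fun p => IsConj p s)
    (fun h _ => Finset.mem_filter.2 ⟨Finset.mem_univ _, (isConj_iff.2 ⟨h, rfl⟩).symm⟩), Finset.mul_sum]
  refine Finset.sum_congr rfl fun p hp => ?_
  obtain ⟨g, hg⟩ := isConj_iff.1 (Finset.mem_filter.1 hp).2.symm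
  rw [Finset.sum_congr rfl fun h hh => congrArg F (Finset.mem_filter.1 hh).2, Finset.sum_const,
    nsmul_eq_mul]
  congr 2
  rw [← Fintype.card_subtype, ← Nat.card_eq_fintype_card]
  refine Nat.card_congr ((Equiv.mulLeft g⁻¹).subtypeEquiv fun h => ?_)
  rw [Equiv.coe_mulLeft, mem_centralizer_singleton_iff]
  constructor
  · intro e
    calc g⁻¹ * h * s = g⁻¹ * (h * s * h⁻¹) * h := by group
      _ = s * (g⁻¹ * h) := by rw [e, ← hg]; group
  · intro e
    calc h * s * h⁻¹ = g * (g⁻¹ * h * s) * h⁻¹ := by group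
      _ = p := by rw [e, ← hg]; group

open scoped Classical in
/-- The number of factorisations of `g` inside two classes. -/
theorem card_pairs (s v g : G) :
    (Nat.card (centralizer ({s} : Set G)) : ℂ) * (Nat.card (centralizer ({v} : Set G)) : ℂ) *
        (Nat.card {p : G // IsConj p s ∧ IsConj (p⁻¹ * g) v} : ℂ) =
      (Nat.card G : ℂ) * ∑ φ : Cfsg.IrrCharacter G,
        (φ : G → ℂ) s * (φ : G → ℂ) v * conj ((φ : G → ℂ) g) / (φ : G → ℂ) 1 := by
  rw [← sum_conj_mul_eq]
  have e1 : ∀ p : G, (∑ k : G, if p * (k * v * k⁻¹) = g then (1 : ℂ) else 0) =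
      (Nat.card (centralizer ({v} : Set G)) : ℂ) * if IsConj (p⁻¹ * g) v then 1 else 0 := by
    intro p
    rw [sum_conj_apply v fun q => if p * q = g then (1 : ℂ) else 0, Finset.sum_boole,
      Finset.filter_filter]
    congr 1
    by_cases hp : IsConj (p⁻¹ * g) v
    · rw [if_pos hp, Finset.card_eq_one.2 ⟨p⁻¹ * g, ?_⟩, Nat.cast_one]
      ext q
      simp only [Finset.mem_filter, Finset.mem_univ, true_and, Finset.mem_singleton]
      exact ⟨fun hq => by rw [← hq.2, inv_mul_cancel_left],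
        fun hq => hq ▸ ⟨hp, mul_inv_cancel_left p g⟩⟩
    · rw [if_neg hp, Finset.card_eq_zero.2 ?_, Nat.cast_zero]
      rw [Finset.filter_eq_empty_iff]
      rintro q - ⟨hq1, hq2⟩
      exact hp (by rw [← hq2, inv_mul_cancel_left]; exact hq1)
  rw [sum_conj_apply s fun p => ∑ k : G, if p * (k * v * k⁻¹) = g then (1 : ℂ) else 0,
    Finset.sum_congr rfl fun p _ => e1 p, ← Finset.mul_sum, Finset.sum_boole, Finset.filter_filter,
    ← Fintype.card_subtype, ← Nat.card_eq_fintype_card]
  ring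

end count

/-- An involution inverting `x` is conjugate to every involution whose product with it is `x`. -/
theorem Hyp.pair_cases (h : Hyp x) {u : G} (hu : u * u = 1) (hux : u * x * u⁻¹ = x⁻¹) {p : G}
    (hp : p * p = 1) (hp2 : p⁻¹ * x * (p⁻¹ * x) = 1) (hp1 : p ≠ 1) :
    IsConj p u ∧ IsConj (p⁻¹ * x) u := by
  have hpi : p⁻¹ = p := inv_eq_of_mul_eq_one_right hp
  have hui : u⁻¹ = u := inv_eq_of_mul_eq_one_right hu
  rw [hpi] at hp2 ⊢
  have hpx : p * x * p⁻¹ = x⁻¹ := by
    rw [hpi]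
    refine eq_inv_of_mul_eq_one_left ?_
    calc p * x * p * x = p * x * (p * x) := by group
      _ = 1 := hp2
  have hc : Commute (u * p) x := by
    show u * p * x = x * (u * p)
    calc u * p * x = u * (p * x * p⁻¹) * p := by group
      _ = u * (u * x * u⁻¹) * p := by rw [hpx, hux]
      _ = x * (u * p) := by rw [hui]; simp only [← mul_assoc, hu, one_mul]
  have hconj : ∀ i ∈ zpowers x, IsConj (u * i) u := by
    intro i hi
    have hpow : ∀ j : ℤ, u * x ^ j * u⁻¹ = x ^ (-j) := fun j => by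
      rw [← conj_zpow, hux, inv_zpow']
    obtain ⟨j, rfl⟩ := mem_zpowers_iff.1 hi
    have h3 : x ^ (3 : ℤ) = 1 := by exact_mod_cast h.pow_three
    refine isConj_iff.2 ⟨x ^ (-j : ℤ), ?_⟩
    calc x ^ (-j) * (u * x ^ j) * (x ^ (-j))⁻¹ = (u * x ^ j * u⁻¹) * u * (x ^ j * x ^ j) := by
          rw [hpow, zpow_neg, inv_inv]; group
      _ = u * ((x ^ (3 : ℤ)) ^ j) := by
          rw [hui]
          calc u * x ^ j * u * u * (x ^ j * x ^ j) = u * x ^ j * (u * u) * (x ^ j * x ^ j) := by group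
            _ = u * (x ^ j * x ^ j * x ^ j) := by rw [hu]; group
            _ = u * ((x ^ (3 : ℤ)) ^ j) := by rw [← zpow_mul]; group
      _ = u := by rw [h3, one_zpow, mul_one]
  have hm := h.cent _ hc
  have e : p = u * (u * p) := by rw [← mul_assoc, hu, one_mul]
  constructor
  · rw [e]; exact hconj _ hm
  · rw [e, mul_assoc u (u * p) x]; exact hconj _ (mul_mem hm (mem_zpowers x))

/-- The data extracted from the characters. -/
theorem exists_data [Finite G] [IsSimpleGroup G] (hnc : ¬ IsMulCommutative G) (h : Hyp x) {u : G}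
    (hu : u * u = 1) (hu1 : u ≠ 1) (hux : u * x * u⁻¹ = x⁻¹) :
    ∃ d m e : ℕ, d % 3 = 1 ∧ 4 ≤ d ∧ ¬ 3 ∣ m ∧ 2 ∣ e ∧ 2 * d + 4 ≤ 3 * e ∧ 3 * e ≤ 4 * d + 2 ∧
      Nat.card (centralizer ({u} : Set G)) = m * e ∧
      1 + ((d : ℤ) - e) ^ 2 + ((d : ℤ) + 1 - e) ^ 2 ≤ m * e ∧
      Nat.card G = 3 * (m * m * (d * (d + 1))) ∧
      3 * Nat.card (pairSet x) = m * m * (d * (d + 1) + 1) ∧
      e * Nat.card (invSet x) + m * (e * (2 * d + 1)) = 3 * (m * (d * (d + 1))) ∧
      ∀ s : G, s * s = 1 → s ≠ 1 → IsConj s u := by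
  classical
  cases nonempty_fintype G
  have hperf : commutator G = ⊤ :=
    (Subgroup.Normal.eq_bot_or_eq_top (show (commutator G).Normal from inferInstance)).resolve_left fun e =>
      hnc ⟨⟨fun a b => commutatorElement_eq_one_iff_mul_comm.1 (Subgroup.mem_bot.1 (e ▸
        Subgroup.commutator_mem_commutator (mem_top a) (mem_top b)))⟩⟩
  set X : Subgroup G := zpowers x with hX
  haveI : Fintype X := Fintype.ofFinite _
  -- a faithful linear character of `X`
  set ω : ℂ := Complex.exp (2 * Real.pi * Complex.I / (3 : ℕ)) with hω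
  have hωp : IsPrimitiveRoot ω 3 := Complex.isPrimitiveRoot_exp 3 (by norm_num)
  have hω3 : ω ^ 3 = 1 := hωp.pow_eq_one
  have hω1 : ω ≠ 1 := hωp.ne_one (by norm_num)
  have hωsum : 1 + ω + ω ^ 2 = 0 := by
    have : (ω - 1) * (1 + ω + ω ^ 2) = 0 := by linear_combination hω3
    exact (mul_eq_zero.1 this).resolve_left (sub_ne_zero.2 hω1)
  set g₀ : X := ⟨x, mem_zpowers x⟩ with hg₀
  have hg₀o : orderOf g₀ = 3 := by rw [hg₀, orderOf_mk]; exact h.ord
  obtain ⟨lam, hlam⟩ : ∃ lam : X →* ℂˣ, (lam g₀ : ℂ) = ω := by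
    have hgen : ∀ y : X, y ∈ zpowers g₀ := fun y => by
      obtain ⟨n, hn⟩ := mem_zpowers_iff.1 y.2
      exact mem_zpowers_iff.2 ⟨n, Subtype.ext (by simp [hg₀, hn])⟩
    haveI : IsCyclic X := ⟨⟨g₀, hgen⟩⟩
    let w : ℂˣ := ⟨ω, ω ^ 2, by rw [← pow_succ']; exact hω3, by rw [← pow_succ]; exact hω3⟩
    have hw : orderOf w ∣ orderOf g₀ := by
      rw [hg₀o]
      exact orderOf_dvd_of_pow_eq_one (Units.ext (by simp [w, Units.val_pow_eq_pow_val, hω3]))
    exact ⟨monoidHomOfForallMemZpowers hgen hw, by rw [monoidHomOfForallMemZpowers_apply_gen]⟩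
  have hXsum : ∀ f : X → ℂ, ∑ y : X, f y = f (g₀ ^ 0) + f (g₀ ^ 1) + f (g₀ ^ 2) := by
    intro f
    have hbij : Function.Bijective fun i : Fin 3 => g₀ ^ (i : ℕ) := by
      refine (Fintype.bijective_iff_injective_and_card _).2 ⟨fun i j hij => ?_, ?_⟩
      · exact Fin.ext (pow_injOn_Iio_orderOf (by simp [hg₀o]) (by simp [hg₀o]) hij)
      · rw [Fintype.card_fin, ← Nat.card_eq_fintype_card, hX, h.card_zpowers]
    rw [← hbij.sum_comp f, Fin.sum_univ_three]
    rfl
  have hx2 : ∀ φ : Cfsg.IrrCharacter G, (φ : G → ℂ) (x ^ 2) = (φ : G → ℂ) x := fun φ => by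
    rw [← h.inv_eq, ← hux]
    exact IsIrrCharacter.isClassFunction φ.2 x u
  choose dg hdg0 hdg using fun φ : Cfsg.IrrCharacter G => IsIrrCharacter.apply_one_eq φ.2
  -- the values at `x` are integers
  have hval : ∀ φ : Cfsg.IrrCharacter G, ∃ z : ℤ, ∃ j : ℕ, (φ : G → ℂ) x = z ∧
      (dg φ : ℤ) = z + 3 * j := by
    intro φ
    have hr : Cfsg.IsCharacter X fun y : X => (φ : G → ℂ) y :=
      IsCharacter.restrict (IsIrrCharacter.isCharacter φ.2) _
    obtain ⟨k, hk⟩ := IsCharacter.classInner_nat hr isCharacter_one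
    obtain ⟨j, hj⟩ := IsCharacter.classInner_nat hr (isCharacter_hom lam)
    rw [Cfsg.classInner, hXsum, show Nat.card X = 3 from h.card_zpowers] at hk hj
    simp only [hg₀, SubmonoidClass.mk_pow, pow_zero, pow_one, hx2, hdg, map_one, mul_one] at hk
    have e1 : conj (lam (g₀ ^ 0) : ℂ) = 1 := by simp
    have e2 : conj (lam (g₀ ^ 1) : ℂ) + conj (lam (g₀ ^ 2) : ℂ) = -1 := by
      rw [pow_one, map_pow lam, Units.val_pow_eq_pow_val, hlam, ← map_add,
        show ω + ω ^ 2 = -1 by linear_combination hωsum, map_neg, map_one]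
    simp only [show ((g₀ ^ 0 : X) : G) = 1 by simp, show ((g₀ ^ 1 : X) : G) = x by simp [hg₀],
      show ((g₀ ^ 2 : X) : G) = x ^ 2 by simp [hg₀], hx2, hdg, e1, mul_one] at hj
    simp only [OneMemClass.coe_one, hdg] at hk
    refine ⟨(k : ℤ) - j, j, ?_, ?_⟩
    · push_cast at hk hj ⊢
      linear_combination hk - hj + (φ : G → ℂ) x * (3 : ℂ)⁻¹ * e2
    · have hxz : (dg φ : ℂ) = (((k : ℤ) - j + 3 * j : ℤ) : ℂ) := by
        push_cast at hk hj ⊢
        linear_combination hk + 2 * hj - 2 * (φ : G → ℂ) x * (3 : ℂ)⁻¹ * e2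
      exact_mod_cast hxz
  choose z j hz hdz using hval
  have hC : Nat.card (centralizer ({x} : Set G)) = 3 := by
    have : centralizer ({x} : Set G) = zpowers x := le_antisymm
      (fun g hg => h.cent g (mem_centralizer_singleton_iff.1 hg))
      (zpowers_le.2 (mem_centralizer_singleton_iff.2 rfl))
    rw [this, h.card_zpowers]
  have hsq : ∑ φ, z φ * z φ = 3 := by
    have e := sum_irr_mul_conj x x
    rw [if_pos (IsConj.refl x), hC] at e
    simp only [hz, map_intCast] at e
    exact_mod_cast e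
  have horth : ∀ g, ¬ IsConj g x → ∑ φ : Cfsg.IrrCharacter G, (φ : G → ℂ) g * (z φ : ℂ) = 0 := by
    intro g hg
    have e := sum_irr_mul_conj g x
    rw [if_neg hg] at e
    simpa only [hz, map_intCast] using e
  have hnot1 : ¬ IsConj (1 : G) x := fun e => h.ne_one (isConj_one_right.1 e)
  have hdeg : ∑ φ, (dg φ : ℤ) * z φ = 0 := by
    have e := horth 1 hnot1
    simp only [hdg] at e
    exact_mod_cast e
  let one : Cfsg.IrrCharacter G := ⟨fun _ => 1, isIrrCharacter_one⟩
  have hone : z one = 1 ∧ dg one = 1 := by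
    refine ⟨?_, ?_⟩
    · have e : ((1 : ℤ) : ℂ) = (z one : ℂ) := by rw [Int.cast_one]; exact hz one
      exact_mod_cast e.symm
    · have e : ((1 : ℕ) : ℂ) = (dg one : ℂ) := by rw [Nat.cast_one]; exact hdg one
      exact_mod_cast e.symm
  obtain ⟨a₁, a₂, a₃, h12, h13, h23, hz1, hz2, hz3, hz0⟩ := exists_three z hsq
  obtain ⟨p, q, hp1, hq1, hpq, hzp, hzq, hzpq0⟩ : ∃ p q, p ≠ one ∧ q ≠ one ∧ p ≠ q ∧
      (z p = 1 ∨ z p = -1) ∧ (z q = 1 ∨ z q = -1) ∧
      ∀ i, i ≠ one → i ≠ p → i ≠ q → z i = 0 := by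
    by_cases e1 : a₁ = one
    · subst e1; exact ⟨a₂, a₃, h12.symm, h13.symm, h23, hz2, hz3, hz0⟩
    by_cases e2 : a₂ = one
    · subst e2; exact ⟨a₁, a₃, h12, h23.symm, h13, hz1, hz3, fun i a b c => hz0 i b a c⟩
    by_cases e3 : a₃ = one
    · subst e3; exact ⟨a₁, a₂, h13, h23, h12, hz1, hz2, fun i a b c => hz0 i b c a⟩
    have := hz0 one (Ne.symm e1) (Ne.symm e2) (Ne.symm e3)
    omega
  have hsum3 : ∀ (f : Cfsg.IrrCharacter G → ℂ), (∀ i, z i = 0 → f i = 0) →
      ∑ i, f i = f one + (f p + f q) := by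
    intro f hf
    rw [← Finset.sum_subset (Finset.subset_univ ({one, p, q} : Finset _)) fun i _ hi => by
      simp only [Finset.mem_insert, Finset.mem_singleton, not_or] at hi
      exact hf i (hzpq0 i hi.1 hi.2.1 hi.2.2)]
    rw [Finset.sum_insert (by simp [hp1.symm, hq1.symm]), Finset.sum_pair hpq]
  obtain ⟨χ, θ, hχ1, hθ1, hχθ, hzχ, hzθ, hsum, hd1⟩ : ∃ χ θ, χ ≠ one ∧ θ ≠ one ∧ χ ≠ θ ∧
      z χ = 1 ∧ z θ = -1 ∧ (∀ (f : Cfsg.IrrCharacter G → ℂ), (∀ i, z i = 0 → f i = 0) →
        ∑ i, f i = f one + (f χ + f θ)) ∧ dg θ = dg χ + 1 := by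
    have e : (1 : ℂ) + ((dg p : ℂ) * z p + (dg q : ℂ) * z q) = 0 := by
      have e' := hsum3 (fun i => (dg i : ℂ) * z i) (fun i hi => by simp [hi])
      rw [show ∑ i, (dg i : ℂ) * (z i : ℂ) = 0 by exact_mod_cast hdeg] at e'
      simp only [hone.1, hone.2, Nat.cast_one, Int.cast_one, mul_one] at e'
      exact e'.symm
    have e2 : 1 + ((dg p : ℤ) * z p + (dg q : ℤ) * z q) = 0 := by exact_mod_cast e
    have p0 := hdg0 p
    have q0 := hdg0 q
    rcases hzp with e3 | e3 <;> rcases hzq with e4 | e4 <;> rw [e3, e4] at e2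
    · omega
    · exact ⟨p, q, hp1, hq1, hpq, e3, e4, hsum3, by omega⟩
    · exact ⟨q, p, hq1, hp1, hpq.symm, e4, e3, fun f hf => by rw [hsum3 f hf]; ring, by omega⟩
    · omega
  set d := dg χ with hdd
  have hdmod : d % 3 = 1 := by
    have := hdz χ
    rw [hzχ] at this
    omega
  have hd4 : 4 ≤ d := by
    have h1 := CfsgLib.SmallGroups.SelfInverse.apply_one_ne_one hperf χ.2
      (fun e => hχ1 (Subtype.ext e))
    rw [hdg] at h1
    have : d ≠ 1 := fun e => h1 (by rw [← hdd, e, Nat.cast_one])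
    omega
  -- values at an element not conjugate to `x`
  have hrel : ∀ g, ¬ IsConj g x → (θ : G → ℂ) g = 1 + (χ : G → ℂ) g := by
    intro g hg
    have e' := horth g hg
    rw [hsum _ (fun i hi => by simp [hi]), hone.1, hzχ, hzθ] at e'
    simp only [one] at e'
    push_cast at e'
    linear_combination -e'
  have hnc2 : ∀ s : G, s * s = 1 → ¬ IsConj s x := fun s hs e => by
    have := h.orderOf_of_isConj e
    have h2 : orderOf s ∣ 2 := orderOf_dvd_of_pow_eq_one (by rw [pow_two, hs])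
    rw [this] at h2
    omega
  have hintv : ∀ (φ : Cfsg.IrrCharacter G) (s : G), s * s = 1 → ∃ w : ℤ, (φ : G → ℂ) s = w :=
    fun φ s hs => CfsgLib.SmallGroups.SelfInverse.exists_int_of_sq_one φ.2 hs
  obtain ⟨a, ha⟩ := hintv χ u hu
  have hθu : (θ : G → ℂ) u = ((a + 1 : ℤ) : ℂ) := by
    rw [hrel u (hnc2 u hu), ha]; push_cast; ring
  have hd0 : (d : ℂ) ≠ 0 := Nat.cast_ne_zero.2 (by omega)
  have hd10 : (d : ℂ) + 1 ≠ 0 := by exact_mod_cast Nat.succ_ne_zero d
  have hχd : (χ : G → ℂ) 1 = (d : ℂ) := hdg χ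
  have hθd : (θ : G → ℂ) 1 = (d : ℂ) + 1 := by rw [hdg θ, hd1]; push_cast; ring
  -- the class multiplication formula at `x`
  have hform : ∀ s v : G, (Nat.card (centralizer ({s} : Set G)) : ℂ) *
        (Nat.card (centralizer ({v} : Set G)) : ℂ) *
        (Nat.card {p : G // IsConj p s ∧ IsConj (p⁻¹ * x) v} : ℂ) =
      (Nat.card G : ℂ) * (1 + (χ : G → ℂ) s * (χ : G → ℂ) v / d -
        (θ : G → ℂ) s * (θ : G → ℂ) v / (d + 1)) := by
    intro s v
    rw [card_pairs s v x, hsum _ (fun i hi => by simp [hz, hi])]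
    simp only [hz, hone.1, hzχ, hzθ, hχd, hθd]
    simp only [one]
    push_cast
    simp only [map_one, map_neg]
    ring
  set c := Nat.card (centralizer ({u} : Set G)) with hcdef
  -- only one class of involutions
  have hui : u⁻¹ = u := inv_eq_of_mul_eq_one_right hu
  have hclass : ∀ s : G, s * s = 1 → s ≠ 1 → IsConj s u := by
    intro s hs hs1
    by_contra hsu
    have hsq' : ∀ p, IsConj p u → p * p = 1 ∧ p ≠ 1 := fun p hp => by
      obtain ⟨g, hg⟩ := isConj_iff.1 hp.symm
      rw [← hg]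
      exact ⟨by rw [← pow_two, conj_pow, pow_two, hu, mul_one, mul_inv_cancel],
        fun e => hu1 (by simpa using e)⟩
    have h0 : Nat.card {p : G // IsConj p u ∧ IsConj (p⁻¹ * x) s} = 0 := by
      rw [Nat.card_eq_zero]
      left
      refine ⟨fun ⟨p, hp1, hp2⟩ => ?_⟩
      obtain ⟨g, hg⟩ := isConj_iff.1 hp2.symm
      have hq : p⁻¹ * x * (p⁻¹ * x) = 1 := by
        rw [← hg, ← pow_two, conj_pow, pow_two, hs, mul_one, mul_inv_cancel]
      exact hsu (hp2.symm.trans (h.pair_cases hu hux (hsq' p hp1).1 hq (hsq' p hp1).2).2)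
    obtain ⟨w, hw⟩ := hintv χ s hs
    have e := hform u s
    rw [h0, Nat.cast_zero, mul_zero, hrel s (hnc2 s hs), ha, hθu, hw] at e
    have e2 : 1 + (a : ℂ) * w / d - ((a + 1 : ℤ) : ℂ) * (1 + w) / (d + 1) = 0 :=
      (mul_eq_zero.1 e.symm).resolve_left CfsgLib.Char.card_ne_zero
    field_simp at e2
    push_cast at e2
    have e3 : ((d : ℂ) - a) * ((d : ℂ) - w) = 0 := by linear_combination e2
    have hker : ∀ g : G, (χ : G → ℂ) g = (d : ℂ) → g = 1 := by
      intro g hg
      set K := charKer (IsIrrCharacter.isCharacter χ.2)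
      have hgK : g ∈ K := (mem_charKer _).2 (hg.trans hχd.symm)
      haveI : K.Normal := charKer_normal _
      rcases Subgroup.Normal.eq_bot_or_eq_top (show K.Normal from inferInstance) with e | e
      · rw [e] at hgK; exact mem_bot.1 hgK
      · exfalso
        have hxK : x ∈ K := e ▸ mem_top x
        have h1 := (mem_charKer _).1 hxK
        rw [hz, hzχ, hχd, Int.cast_one] at h1
        have : d = 1 := by exact_mod_cast h1.symm
        omega
    rcases mul_eq_zero.1 e3 with e4 | e4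
    · exact hu1 (hker u (by rw [ha]; linear_combination -e4))
    · exact hs1 (hker s (by rw [hw]; linear_combination -e4))
  -- pairs of involutions
  have hthree : Nat.card {p : G // IsConj p u ∧ IsConj (p⁻¹ * x) u} = 3 := by
    rw [← h.card_zpowers]
    have hinvx : ∀ i ∈ zpowers x, u * i * u⁻¹ = i⁻¹ := by
      intro i hi
      obtain ⟨k, rfl⟩ := mem_zpowers_iff.1 hi
      rw [← conj_zpow, hux, inv_zpow]
    have hsqi : ∀ i ∈ zpowers x, u * i * (u * i) = 1 := fun i hi => by
      rw [show u * i * (u * i) = u * i * u * i by group]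
      nth_rewrite 2 [← hui]
      rw [hinvx i hi, inv_mul_cancel]
    have hne : ∀ i ∈ zpowers x, u * i ≠ 1 := fun i hi e => by
      have : u ∈ zpowers x := by rw [eq_inv_of_mul_eq_one_left e]; exact inv_mem hi
      have h2 := hinvx u this
      rw [mul_inv_cancel_right, hui] at h2
      have h3 : orderOf u ∣ 3 := (orderOf_dvd_natCard (⟨u, this⟩ : zpowers x)).trans
        (dvd_of_eq h.card_zpowers) |> fun d => by rwa [orderOf_mk] at d
      have h4 : orderOf u ∣ 2 := orderOf_dvd_of_pow_eq_one (by rw [pow_two, hu])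
      exact hu1 (orderOf_eq_one_iff.1 (Nat.eq_one_of_dvd_coprimes (by norm_num) h3 h4))
    refine Nat.card_congr ((Equiv.mulLeft u⁻¹).subtypeEquiv fun p => ?_)
    rw [Equiv.coe_mulLeft]
    constructor
    · rintro ⟨hp1, hp2⟩
      obtain ⟨g, hg⟩ := isConj_iff.1 hp1.symm
      obtain ⟨g', hg'⟩ := isConj_iff.1 hp2.symm
      have hpp : p * p = 1 := by rw [← hg, ← pow_two, conj_pow, pow_two, hu, mul_one, mul_inv_cancel]
      have hqq : p⁻¹ * x * (p⁻¹ * x) = 1 := by
        rw [← hg', ← pow_two, conj_pow, pow_two, hu, mul_one, mul_inv_cancel]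
      have hpi : p⁻¹ = p := inv_eq_of_mul_eq_one_right hpp
      refine h.cent _ ?_
      show u⁻¹ * p * x = x * (u⁻¹ * p)
      rw [hui]
      rw [hpi] at hqq
      have hpx : p * x * p = x⁻¹ := eq_inv_of_mul_eq_one_left (by rw [← hqq]; group)
      calc u * p * x = u * (p * x * p) * p := by rw [show u * (p * x * p) * p = u * p * x * (p * p) by group, hpp, mul_one]
        _ = u * (u * x * u⁻¹) * p := by rw [hpx, hux]
        _ = x * (u * p) := by rw [hui]; simp only [← mul_assoc, hu, one_mul]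
    · intro hi
      have e1 : p = u * (u⁻¹ * p) := (mul_inv_cancel_left u p).symm
      have hp0 := hsqi _ hi
      have hp1' := hne _ hi
      rw [← e1] at hp0 hp1'
      refine h.pair_cases hu hux hp0 ?_ hp1'
      rw [inv_eq_of_mul_eq_one_right hp0]
      have e2 : p * x = u * (u⁻¹ * p * x) := by group
      rw [e2]
      exact hsqi _ (mul_mem hi (mem_zpowers x))
  -- the order
  have hG : (3 : ℤ) * c * c * (d * (d + 1)) = Nat.card G * ((d : ℤ) - a) ^ 2 := by
    have e := hform u u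
    rw [hthree, ha, hθu] at e
    push_cast at e
    field_simp at e
    have e' : ((3 * c * c * (d * (d + 1)) : ℤ) : ℂ) = ((Nat.card G * ((d : ℤ) - a) ^ 2 : ℤ) : ℂ) := by
      push_cast
      linear_combination e
    exact_mod_cast e'
  -- bounds on the value at the involution, from the normaliser of `X`
  have hbounds : ∃ k₁ k₂ k₃ k₄ : ℕ, (d : ℤ) + 2 + 3 * a = 6 * k₁ ∧ (d : ℤ) + 2 - 3 * a = 6 * k₂ ∧
      (d : ℤ) - 1 + 3 * (a + 1) = 6 * k₃ ∧ (d : ℤ) - 1 - 3 * (a + 1) = 6 * k₄ := by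
    set H : Subgroup G := normalizer (X : Set G) with hH
    haveI : Fintype H := Fintype.ofFinite _
    have hxH : x ∈ H := le_normalizer (mem_zpowers x)
    have huH : u ∈ H := by
      rw [hH, hX, mem_normalizer_iff_map_conj_eq, MonoidHom.map_zpowers]
      show zpowers (u * x * u⁻¹) = zpowers x
      rw [hux, zpowers_inv]
    have hinvc : ∀ g ∈ H, g * x * g⁻¹ = x ∨ g * x * g⁻¹ = x⁻¹ := fun g hg => by
      rcases h.cases ((mem_normalizer_iff.1 hg x).1 (mem_zpowers x)) with e | e | e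
      · exact absurd (by simpa using e) h.ne_one
      · exact Or.inl e
      · exact Or.inr e
    have hsplit : ∀ g ∈ H, g ∈ X ∨ u * g ∈ X := fun g hg => by
      rcases hinvc g hg with e | e
      · exact Or.inl (h.cent g (mul_inv_eq_iff_eq_mul.1 e))
      · refine Or.inr (h.cent _ (mul_inv_eq_iff_eq_mul.1 ?_))
        calc u * g * x * (u * g)⁻¹ = u * (g * x * g⁻¹) * u⁻¹ := by group
          _ = (u * x * u⁻¹)⁻¹ := by rw [e]; group
          _ = x := by rw [hux, inv_inv]
    have huX : u ∉ X := fun hm => by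
      have h3 : orderOf u ∣ 3 := (orderOf_dvd_natCard (⟨u, hm⟩ : zpowers x)).trans
        (dvd_of_eq h.card_zpowers) |> fun d => by rwa [orderOf_mk] at d
      have h4 : orderOf u ∣ 2 := orderOf_dvd_of_pow_eq_one (by rw [pow_two, hu])
      exact hu1 (orderOf_eq_one_iff.1 (Nat.eq_one_of_dvd_coprimes (by norm_num) h3 h4))
    have hxor : ∀ g ∈ H, g ∈ X → u * g ∉ X := fun g _ hg hug => huX (by
      have := mul_mem hug (inv_mem hg)
      rwa [mul_inv_cancel_right] at this)
    have hHsum : ∀ f : G → ℂ, ∑ g : H, f g = ∑ g : X, f g + ∑ g : X, f (u * g) := by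
      intro f
      rw [← Finset.sum_filter_add_sum_filter_not Finset.univ (fun g : H => (g : G) ∈ X)]
      congr 1
      · refine Finset.sum_bij' (fun g hg => ⟨g, (Finset.mem_filter.1 hg).2⟩)
          (fun g _ => ⟨g, le_normalizer g.2⟩) ?_ ?_ ?_ ?_ ?_ <;> simp
      · refine Finset.sum_bij' (fun g hg => ⟨u * g, (hsplit g g.2).resolve_left (Finset.mem_filter.1 hg).2⟩)
          (fun g _ => ⟨u * g, mul_mem huH (le_normalizer g.2)⟩) ?_ ?_ ?_ ?_ ?_
        · intro g _; exact Finset.mem_univ _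
        · intro g _
          refine Finset.mem_filter.2 ⟨Finset.mem_univ _, fun hm => hxor _ (le_normalizer g.2) g.2 hm⟩
        · intro g _; exact Subtype.ext (by simp [← mul_assoc, hu])
        · intro g _; exact Subtype.ext (by simp [← mul_assoc, hu])
        · intro g _; simp [← mul_assoc, hu]
    have hHcard : Nat.card H = 6 := by
      have e := hHsum fun _ => 1
      simp only [Finset.sum_const, Finset.card_univ, nsmul_eq_mul, mul_one, ← Nat.card_eq_fintype_card,
        hX, h.card_zpowers] at e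
      have e' : ((Nat.card H : ℕ) : ℂ) = ((6 : ℕ) : ℂ) := by rw [e]; norm_num
      exact_mod_cast e'
    let sgn : H →* ℂˣ :=
      { toFun := fun g => if (g : G) ∈ X then 1 else -1
        map_one' := by simp [one_mem]
        map_mul' := fun g k => by
          rcases hinvc g g.2 with e | e <;> rcases hinvc k k.2 with e' | e'
          all_goals
            have hx1 : x ≠ x⁻¹ := fun e0 => by
              have h2 : orderOf x ∣ 2 := orderOf_dvd_of_pow_eq_one (by
                rw [pow_two]; nth_rewrite 2 [e0]; exact mul_inv_cancel x)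
              rw [h.ord] at h2; omega
            have hmX : ∀ w : G, (w ∈ X ↔ w * x * w⁻¹ = x) := fun w =>
              ⟨fun hw => mul_inv_eq_iff_eq_mul.2 (by
                obtain ⟨n, rfl⟩ := mem_zpowers_iff.1 hw
                exact ((Commute.refl x).zpow_left n).eq),
                fun hw => h.cent w (mul_inv_eq_iff_eq_mul.1 hw)⟩
            have hgk : ((g * k : H) : G) * x * ((g * k : H) : G)⁻¹ =
                (g : G) * ((k : G) * x * (k : G)⁻¹) * (g : G)⁻¹ := by push_cast; group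
            simp only [hmX, e, e', hgk]
          · simp
          · rw [show (g : G) * x⁻¹ * (g : G)⁻¹ = ((g : G) * x * (g : G)⁻¹)⁻¹ by group, e]
            simp [hx1.symm]
          · simp [hx1.symm]
          · rw [show (g : G) * x⁻¹ * (g : G)⁻¹ = ((g : G) * x * (g : G)⁻¹)⁻¹ by group, e]
            simp [hx1.symm] }
    have hux2 : ∀ φ : Cfsg.IrrCharacter G, ∀ g : X, (φ : G → ℂ) (u * g) = (φ : G → ℂ) u := by
      intro φ g
      refine IsClassFunction.apply_eq_of_isConj (IsIrrCharacter.isClassFunction φ.2) ?_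
      have hp0 : u * (g : G) * (u * g) = 1 := by
        obtain ⟨k, hk⟩ := mem_zpowers_iff.1 g.2
        rw [show u * (g : G) * (u * g) = u * g * u⁻¹ * g by rw [hui]; group, ← hk, ← conj_zpow, hux,
          inv_zpow, inv_mul_cancel]
      have hne : u * (g : G) ≠ 1 := fun e => huX (by
        rw [eq_inv_of_mul_eq_one_left e]; exact inv_mem g.2)
      refine (h.pair_cases hu hux hp0 ?_ hne).1
      rw [inv_eq_of_mul_eq_one_right hp0]
      obtain ⟨k, hk⟩ := mem_zpowers_iff.1 (mul_mem g.2 (mem_zpowers x) : (g : G) * x ∈ X)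
      rw [show u * (g : G) * x * (u * g * x) = u * (g * x) * u⁻¹ * (g * x) by rw [hui]; group,
        ← hk, ← conj_zpow, hux, inv_zpow, inv_mul_cancel]
    have hinner : ∀ φ : Cfsg.IrrCharacter G, ∀ w : ℤ, (φ : G → ℂ) u = w → ∃ k k' : ℕ,
        (dg φ : ℤ) + 2 * z φ + 3 * w = 6 * k ∧ (dg φ : ℤ) + 2 * z φ - 3 * w = 6 * k' := by
      intro φ w hw
      have hr : Cfsg.IsCharacter H fun y : H => (φ : G → ℂ) y :=
        IsCharacter.restrict (IsIrrCharacter.isCharacter φ.2) _
      obtain ⟨k, hk⟩ := IsCharacter.classInner_nat hr isCharacter_one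
      obtain ⟨k', hk'⟩ := IsCharacter.classInner_nat hr (isCharacter_hom sgn)
      have hs : ∀ y : H, (φ : G → ℂ) y * conj ((sgn y : ℂˣ) : ℂ) =
          (fun t : G => (φ : G → ℂ) t * if t ∈ X then 1 else -1) y := fun y => by
        by_cases hy : (y : G) ∈ X <;> simp [sgn, hy]
      have h1 : ∀ g : X, u * (g : G) ∉ X := fun g hm => huX (by
        have := mul_mem hm (inv_mem g.2); rwa [mul_inv_cancel_right] at this)
      rw [Cfsg.classInner, hHcard] at hk hk'
      simp only [map_one, mul_one] at hk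
      rw [hHsum (φ : G → ℂ)] at hk
      rw [Finset.sum_congr rfl fun y _ => hs y,
        hHsum (fun t : G => (φ : G → ℂ) t * if t ∈ X then 1 else -1)] at hk'
      simp only [hux2 φ, if_pos (SetLike.coe_mem _), if_neg (h1 _), hXsum, mul_one, mul_neg] at hk hk'
      simp only [show ((g₀ ^ 0 : X) : G) = 1 by simp, show ((g₀ ^ 1 : X) : G) = x by simp [hg₀],
        show ((g₀ ^ 2 : X) : G) = x ^ 2 by simp [hg₀], hx2, hdg, hz, hw] at hk hk'
      push_cast at hk hk'
      refine ⟨k, k', ?_, ?_⟩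
      · have e : ((dg φ + 2 * z φ + 3 * w : ℤ) : ℂ) = ((6 * k : ℤ) : ℂ) := by
          push_cast; linear_combination (6 : ℂ) * hk
        exact_mod_cast e
      · have e : ((dg φ + 2 * z φ - 3 * w : ℤ) : ℂ) = ((6 * k' : ℤ) : ℂ) := by
          push_cast; linear_combination (6 : ℂ) * hk'
        exact_mod_cast e
    obtain ⟨k₁, k₂, e1, e2⟩ := hinner χ a ha
    obtain ⟨k₃, k₄, e3, e4⟩ := hinner θ (a + 1) hθu
    rw [hzθ, hd1] at e3 e4
    rw [hzχ] at e1 e2
    push_cast at e3 e4
    exact ⟨k₁, k₂, k₃, k₄, by linarith, by linarith, by linarith, by linarith⟩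
  obtain ⟨k₁, k₂, k₃, k₄, hb1, hb2, hb3, hb4⟩ := hbounds
  obtain ⟨e, he⟩ : ∃ e : ℕ, (e : ℤ) = (d : ℤ) - a := ⟨((d : ℤ) - a).toNat, by omega⟩
  -- the order is `3 m² d (d + 1)`
  obtain ⟨k, hk⟩ : d * (d + 1) ∣ Nat.card G := by
    refine (Nat.coprime_self_add_right.2 (Nat.coprime_one_right d)).mul_dvd_of_dvd_of_dvd ?_ ?_
    · obtain ⟨n, hn, hn'⟩ := IsIrrCharacter.apply_one_dvd_card χ.2
      rw [hdg, Nat.cast_inj] at hn
      rw [← hn] at hn'; exact hn'
    · obtain ⟨n, hn, hn'⟩ := IsIrrCharacter.apply_one_dvd_card θ.2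
      rw [hdg, Nat.cast_inj] at hn
      rw [← hn, hd1] at hn'; exact hn'
  have hke : k * (e * e) = 3 * (c * c) := by
    have e1 : ((k : ℤ) * (e * e)) * (d * (d + 1)) = (3 * (c * c)) * (d * (d + 1)) := by
      rw [he]
      rw [hk] at hG
      push_cast at hG
      linear_combination -hG
    have hne : (d : ℤ) * (d + 1) ≠ 0 := by positivity
    exact_mod_cast mul_right_cancel₀ hne e1
  have he0 : 0 < e := by omega
  obtain ⟨m, hm⟩ : e ∣ c := by
    obtain ⟨g, e', c', hg0, hcop, hee, hcc⟩ := Nat.exists_coprime' (m := e) (n := c)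
      (Nat.gcd_pos_of_pos_left c he0)
    have h1 : k * (e' * e') = 3 * (c' * c') := by
      refine Nat.eq_of_mul_eq_mul_right (Nat.mul_pos hg0 hg0) ?_
      rw [hee, hcc] at hke
      linarith
    have h3 : e' * e' ∣ 3 :=
      ((hcop.mul_left hcop).mul_right (hcop.mul_left hcop)).dvd_of_dvd_mul_right ⟨k, by rw [← h1]; ring⟩
    have he1 : e' = 1 := by
      have := Nat.le_of_dvd (by norm_num) h3
      have : e' < 2 := by by_contra; nlinarith
      have : e' ≠ 0 := fun e0 => by rw [e0, zero_mul] at hee; omega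
      omega
    rw [hee, hcc, he1, one_mul]
    exact Dvd.intro_left _ rfl
  have hk3 : k = 3 * (m * m) := by
    refine Nat.eq_of_mul_eq_mul_right (Nat.mul_pos he0 he0) ?_
    rw [hke, hm]; ring
  have hcard : Nat.card G = 3 * (m * m * (d * (d + 1))) := by rw [hk, hk3]; ring
  refine ⟨d, m, e, hdmod, hd4, ?_, by omega, by omega, by omega, by rw [hm, mul_comm], ?_, hcard,
    ?_, ?_, hclass⟩
  · intro h3
    exact h.nine_not_dvd (by
      rw [hcard]
      exact mul_dvd_mul_left 3 ((h3.mul_right m).mul_right _) : 3 * 3 ∣ Nat.card G)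
  · -- column orthogonality at `u`
    choose w hw using fun φ => hintv φ u hu
    have e1 := sum_irr_mul_conj u u
    rw [if_pos (IsConj.refl u)] at e1
    simp only [hw, map_intCast] at e1
    have e2 : ∑ φ, w φ * w φ = (c : ℤ) := by exact_mod_cast e1
    have hle := Finset.sum_le_sum_of_subset_of_nonneg (f := fun φ => w φ * w φ)
      (Finset.subset_univ ({one, χ, θ} : Finset _)) (fun i _ _ => mul_self_nonneg (w i))
    rw [e2, Finset.sum_insert (by simp [hχ1.symm, hθ1.symm]), Finset.sum_pair hχθ] at hle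
    have w1 : w one = 1 := by
      have : ((1 : ℤ) : ℂ) = (w one : ℂ) := by rw [Int.cast_one]; exact hw one
      exact_mod_cast this.symm
    have w2 : w χ = a := by
      have := (hw χ).symm.trans ha
      exact_mod_cast this
    have w3 : w θ = a + 1 := by
      have := (hw θ).symm.trans hθu
      exact_mod_cast this
    rw [w1, w2, w3] at hle
    rw [hm] at hle
    push_cast at hle
    rw [he] at hle ⊢
    linear_combination hle
  · -- pairs of elements of order three
    have hP : Nat.card (pairSet x) = Nat.card {p : G // IsConj p x ∧ IsConj (p⁻¹ * x) x} := by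
      refine Nat.card_congr ((Equiv.mulRight x⁻¹).subtypeEquiv fun y => ?_)
      rw [Equiv.coe_mulRight]
      have eq : (y * x⁻¹)⁻¹ * x = x * y⁻¹ * x := by group
      rw [eq]
      have hiff : ∀ w : G, IsConj w x ↔ w ≠ 1 ∧ w ^ 3 = 1 := fun w => by
        constructor
        · intro hw
          have := h.orderOf_of_isConj hw
          exact ⟨fun e0 => by rw [e0, orderOf_one] at this; omega, this ▸ pow_orderOf_eq_one w⟩
        · rintro ⟨hw1, hw3⟩
          exact h.isConj_of_orderOf hux (orderOf_eq_prime hw3 hw1)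
      rw [hiff, hiff]
      constructor
      · rintro ⟨h1, h2, h3, h4⟩
        refine ⟨⟨fun e0 => h1 (mul_inv_eq_one.1 e0), h3⟩, fun e0 => h2 ?_, h4⟩
        have e5 : y⁻¹ = x⁻¹ * x⁻¹ := by
          calc y⁻¹ = x⁻¹ * (x * y⁻¹ * x) * x⁻¹ := by group
            _ = x⁻¹ * x⁻¹ := by rw [e0, mul_one]
        rw [← inv_inv y, e5, mul_inv_rev, inv_inv, h.inv_eq, pow_two]
      · rintro ⟨⟨h1, h3⟩, h2, h4⟩
        refine ⟨fun e0 => h1 (by simp [e0]), fun e0 => h2 ?_, h3, h4⟩
        show x * y⁻¹ * x = 1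
        rw [e0, inv_inv, ← pow_two, ← pow_succ, h.pow_three]
    have e1 := hform x x
    rw [← hP, hC, hz, hz, hzχ, hzθ, hcard] at e1
    push_cast at e1
    field_simp at e1
    have e2 : ((3 * Nat.card (pairSet x) : ℕ) : ℂ) * ((d * (d + 1) : ℕ) : ℂ) =
        ((m * m * (d * (d + 1) + 1) : ℕ) : ℂ) * ((d * (d + 1) : ℕ) : ℂ) := by
      push_cast
      linear_combination ((d : ℂ) * (d + 1)) * e1
    exact_mod_cast mul_right_cancel₀ (by exact_mod_cast (by positivity : d * (d + 1) ≠ 0)) e2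
  · -- involutions with product of order three
    have hI : Nat.card (invSet x) = Nat.card {p : G // IsConj p u ∧ IsConj (p⁻¹ * x) x} := by
      refine Nat.card_congr ((Equiv.refl G).subtypeEquiv fun y => ?_)
      rw [Equiv.refl_apply]
      constructor
      · rintro ⟨h1, h2, h3⟩
        refine ⟨hclass y h1 h2, ?_⟩
        rw [inv_eq_of_mul_eq_one_right h1]
        refine h.isConj_of_orderOf hux (orderOf_eq_prime h3 fun e0 => ?_)
        have hxy : x = y := by
          calc x = y * y * x := by rw [h1, one_mul]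
            _ = y := by rw [mul_assoc, e0, mul_one]
        exact hnc2 y h1 (hxy ▸ IsConj.refl y)
      · rintro ⟨h1, h2⟩
        obtain ⟨g, hg⟩ := isConj_iff.1 h1.symm
        have hyy : y * y = 1 := by rw [← hg, ← pow_two, conj_pow, pow_two, hu, mul_one, mul_inv_cancel]
        refine ⟨hyy, fun e0 => hu1 (by rw [e0] at hg; simpa using hg), ?_⟩
        rw [inv_eq_of_mul_eq_one_right hyy] at h2
        exact h.orderOf_of_isConj h2 ▸ pow_orderOf_eq_one _
    have e1 := hform u x
    rw [← hI, hC, ← hcdef, hz, hz, hzχ, hzθ, ha, hθu, hcard, hm] at e1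
    push_cast at e1
    field_simp at e1
    have hm0 : (m : ℂ) ≠ 0 := by
      have : 0 < Nat.card G := Nat.card_pos
      exact Nat.cast_ne_zero.2 fun e0 => by rw [hcard, e0] at this; simp at this
    have heC : (e : ℂ) = (d : ℂ) - a := by exact_mod_cast he
    have e2 : ((e : ℂ) * (Nat.card (invSet x) : ℂ) + m * (e * (2 * d + 1))) * (m * (3 * (d * (d + 1)))) =
        (3 * (m * (d * (d + 1)))) * (m * (3 * (d * (d + 1)))) := by
      rw [heC] at e1 ⊢
      linear_combination (3 * ((d : ℂ) * (d + 1))) * e1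
    have hne : (m : ℂ) * (3 * ((d : ℂ) * (d + 1))) ≠ 0 :=
      mul_ne_zero hm0 (mul_ne_zero (by norm_num) (mul_ne_zero hd0 hd10))
    exact_mod_cast mul_right_cancel₀ hne e2

end CfsgLib.Recognition.SelfCentThree
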