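import Cfsg.Agent.Lib.Recognition.SelfCentThree.Count
import Cfsg.Agent.Lib.LocalEvenB.HigmanSL2
import Cfsg.Agent.Lib.SmallGroups.Order168Max
import Cfsg.Agent.Lib.Classical.SLOrders
import Cfsg.Agent.S0252
import Cfsg.Agent.S0494
import Cfsg.Agent.S0495
import Cfsg.Agent.Lib.Solvable.Basic
import Cfsg.Agent.Lib.OddOrder.Basic

/-!
# Reduction to the simple case
-/

set_option autoImplicit false

namespace CfsgLib.Recognition.SelfCentThree

open Subgroup
open scoped MatrixGroups

universe v

/-- A group of order six with a non-normal subgroup of order two. -/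
theorem perm_three_of {H : Type*} [Group H] [Finite H] (L : Subgroup H) (h3 : L.index = 3)
    (h2 : Nat.card L = 2) (hn : ¬ L.Normal) : Nonempty (H ≃* Equiv.Perm (Fin 3)) := by
  have hcore : L.normalCore = ⊥ := by
    rcases (Nat.dvd_prime Nat.prime_two).mp (h2 ▸ card_dvd_of_le L.normalCore_le) with h | h
    · exact card_eq_one.mp h
    · have : L.normalCore = L := eq_of_le_of_card_ge L.normalCore_le (by rw [h, h2])
      exact absurd (this ▸ L.normalCore_normal) hn
  have hinj : Function.Injective (MulAction.toPermHom H (H ⧸ L)) := by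
    rw [← MonoidHom.ker_eq_bot_iff, ← normalCore_eq_ker, hcore]
  have hq : Nat.card (H ⧸ L) = 3 := h3
  have hcard : Nat.card H = Nat.card (Equiv.Perm (H ⧸ L)) := by
    rw [← L.card_mul_index, h2, h3, Nat.card_perm, hq]; rfl
  exact ⟨(MulEquiv.ofBijective _ ((Nat.bijective_iff_injective_and_card _).mpr ⟨hinj, hcard⟩)).trans
    (Equiv.permCongrHom (Finite.equivFinOfCardEq hq))⟩

/-- The field with four elements gives the alternating group as a special linear group. -/
theorem exists_sl_equiv :
    Nonempty (alternatingGroup (Fin 5) ≃* SL(2, GaloisField 2 2)) := by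
  haveI : Fact (Nat.Prime 2) := ⟨Nat.prime_two⟩
  letI : Fintype (GaloisField 2 2) := Fintype.ofFinite _
  have hF : Fintype.card (GaloisField 2 2) = 4 := by
    rw [← Nat.card_eq_fintype_card, GaloisField.card 2 2 (by norm_num)]; norm_num
  obtain ⟨e⟩ := Cfsg.Agent.S0252.result (F := GaloisField 2 2) hF
  have h1 : Nat.card SL(2, GaloisField 2 2) = 60 := by
    rw [CfsgLib.Classical.card_sl2 hF]
    norm_num
  have h2 : Nat.card (Matrix.ProjectiveSpecialLinearGroup (Fin 2) (GaloisField 2 2)) = 60 :=
    Cfsg.Agent.S0252.card60 hF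
  let π : SL(2, GaloisField 2 2) →* Matrix.ProjectiveSpecialLinearGroup (Fin 2) (GaloisField 2 2) :=
    QuotientGroup.mk' (Subgroup.center _)
  have hπ : Function.Bijective π :=
    (Nat.bijective_iff_surjective_and_card _).2 ⟨QuotientGroup.mk'_surjective _, h1.trans h2.symm⟩
  exact ⟨e.symm.trans (MulEquiv.ofBijective π hπ).symm⟩

variable {G : Type v} [Group G] [Finite G] {x : G}

theorem Hyp.exists_inv_conj (h : Hyp x) {P : Subgroup G} (hP : ¬ 3 ∣ Nat.card P)
    (h3 : 3 ∣ Nat.card (normalizer (P : Set G))) : ∃ g : G, Inv x (conjOf g P) := by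
  haveI : Fact (Nat.Prime 3) := ⟨Nat.prime_three⟩
  obtain ⟨⟨y, hy⟩, hyo⟩ := exists_prime_orderOf_dvd_card' 3 h3
  rw [orderOf_mk] at hyo
  obtain ⟨g, -, e⟩ := h.conj_of_orderOf (H := ⊤) (mem_top x) (mem_top y) hyo
  refine ⟨g⁻¹, ?_, by rwa [card_conjOf]⟩
  rw [normalizer_conjOf, mem_conjOf, inv_inv]
  rcases e with e | e
  · rwa [← e]
  · have := inv_mem hy
    rwa [e, show (g * x⁻¹ * g⁻¹)⁻¹ = g * x * g⁻¹ by group] at this

theorem Inv.comap_mk (h : Hyp x) {N : Subgroup G} [N.Normal] (hN : ¬ 3 ∣ Nat.card N)
    {L : Subgroup (G ⧸ N)} (hL : Inv (x : G ⧸ N) L) : Inv x (L.comap (QuotientGroup.mk' N)) := by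
  refine ⟨le_normalizer_comap _ hL.norm, fun e => ?_⟩
  have h1 := card_eq_card_quotient_mul_card_subgroup (N.subgroupOf (L.comap (QuotientGroup.mk' N)))
  have hle : N ≤ L.comap (QuotientGroup.mk' N) := by
    conv_lhs => rw [← QuotientGroup.ker_mk' N]
    exact ker_le_comap _ _
  rw [Nat.card_congr (subgroupOfEquivOfLe hle).toEquiv] at h1
  have h2 : Nat.card (↥(L.comap (QuotientGroup.mk' N)) ⧸ N.subgroupOf (L.comap (QuotientGroup.mk' N))) =
      Nat.card L := by
    show (N.subgroupOf _).index = _
    have e1 := relIndex_ker (f := QuotientGroup.mk' N) (L.comap (QuotientGroup.mk' N))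
    rw [QuotientGroup.ker_mk', map_comap_eq_self_of_surjective (QuotientGroup.mk'_surjective N)] at e1
    exact e1
  rw [h1, h2] at e
  exact (Nat.prime_three.dvd_mul.1 e).elim hL.cop hN

/-- No group of the required kind has a nontrivial core under a quotient with invariant subgroups of
coprime orders. -/
theorem core_part (h : Hyp x) {N : Subgroup G} [N.Normal] (hN : ¬ 3 ∣ Nat.card N)
    (hmax : ∀ M : Subgroup G, M.Normal → ¬ 3 ∣ Nat.card M → N ≤ M → M = N) {r : ℕ} [Fact r.Prime]
    (hr : r ∣ Nat.card N) {L : Subgroup (G ⧸ N)} (hL : Inv (x : G ⧸ N) L)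
    (hLr : ¬ r ∣ Nat.card L) : L = ⊥ := by
  have hI : Inv x N := ⟨le_normalizer_of_normal (K := ⊤) (mem_top x), hN⟩
  obtain ⟨D, hDN, hDr, hD1, hDI, hnorm, -⟩ := hI.exists_part h hr
  haveI hDnormal : D.Normal := normalizer_eq_top_iff.1
    (top_le_iff.1 (by rw [← normalizer_eq_top (H := N)]; exact hnorm))
  have hC := mem_of_orderOf_three_centralizes h hDI hD1
  set C := centralizer (D : Set G)
  haveI : C.Normal := inferInstance
  have hCN : C ≤ N := by
    have e := hmax (N ⊔ C) inferInstance (fun e => ?_) le_sup_left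
    · exact le_sup_right.trans e.le
    · have hd : Nat.card (N ⊔ C : Subgroup G) ∣ Nat.card C * Nat.card N :=
        ⟨_, (sup_comm C N ▸ CfsgLib.Solvable.Basic.card_sup_mul N C).symm⟩
      rcases Nat.prime_three.dvd_mul.1 (e.trans hd) with e' | e'
      · exact hC.cop e'
      · exact hN e'
  set M := L.comap (QuotientGroup.mk' N) with hM
  haveI := (hL.comap_mk h hN).nilpotent h
  rw [eq_bot_iff_forall]
  intro l hl
  obtain ⟨w, rfl⟩ := QuotientGroup.mk'_surjective N l
  by_contra hne
  -- the part of `w` of order prime to `r`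
  obtain ⟨k, m, hm, hkm⟩ : ∃ k m, ¬ r ∣ m ∧ orderOf w = r ^ k * m :=
    Nat.exists_eq_pow_mul_and_not_dvd (orderOf_pos w).ne' r (Fact.out : r.Prime).ne_one
  have hw' : QuotientGroup.mk' N (w ^ r ^ k) ≠ 1 := fun e => by
    rw [map_pow] at e
    apply hne
    have h1 := orderOf_dvd_of_pow_eq_one e
    have h2 : orderOf (QuotientGroup.mk' N w) ∣ Nat.card L := by
      have := orderOf_dvd_natCard (⟨_, hl⟩ : L)
      rwa [orderOf_mk] at this
    have h3 : (r ^ k).Coprime (Nat.card L) :=
      Nat.Coprime.pow_left _ ((Nat.Prime.coprime_iff_not_dvd Fact.out).2 hLr)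
    exact orderOf_eq_one_iff.1 (Nat.eq_one_of_dvd_coprimes h3 h1 h2)
  apply hw'
  rw [QuotientGroup.mk'_apply, QuotientGroup.eq_one_iff]
  refine hCN (mem_centralizer_iff.2 fun a ha => ?_)
  have haM : a ∈ M := by
    rw [hM, mem_comap, QuotientGroup.mk'_apply, (QuotientGroup.eq_one_iff a).2 (hDN ha)]
    exact one_mem L
  have hwM : w ^ r ^ k ∈ M := pow_mem (show w ∈ M from hl) _
  have hcop : (orderOf (⟨a, haM⟩ : M)).Coprime (orderOf (⟨w ^ r ^ k, hwM⟩ : M)) := by
    rw [orderOf_mk, orderOf_mk]
    obtain ⟨j, hj⟩ := IsPGroup.iff_orderOf.1 hDr ⟨a, ha⟩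
    rw [orderOf_mk] at hj
    rw [hj, orderOf_pow, hkm, Nat.gcd_eq_right (dvd_mul_right _ _),
      Nat.mul_div_cancel_left _ (pow_pos (Fact.out : r.Prime).pos k)]
    exact Nat.Coprime.pow_left _ ((Nat.Prime.coprime_iff_not_dvd Fact.out).2 hm)
  exact congrArg Subtype.val (CfsgLib.OddOrder.Basic.commute_of_coprime_orderOf hcop).eq

omit [Finite G] in
theorem quotient_bot_equiv : Nonempty (G ⧸ (⊥ : Subgroup G) ≃* G) := ⟨QuotientGroup.quotientBot⟩

theorem dich_of_le : ∀ (n : ℕ) (G : Type v) [Group G] [Finite G], Nat.card G ≤ n →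
    ∀ x : G, Hyp x → Dich G := by
  intro n
  induction n with
  | zero => intro G _ _ hn; exact absurd hn (Nat.not_le.2 Nat.card_pos)
  | succ n ih =>
    intro G _ _ hn x h
    have hloc : Local x := fun H hH hxH => ih H (by
      have h1 := H.card_mul_index
      have h2 : 1 < H.index := one_lt_index_of_ne_top hH
      have h3 : Nat.card H * 2 ≤ Nat.card H * H.index := Nat.mul_le_mul_left _ h2
      have : 0 < Nat.card H := Nat.card_pos
      omega) ⟨x, hxH⟩ (h.subgroup hxH)
    haveI : Fact (Nat.Prime 3) := ⟨Nat.prime_three⟩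
    by_cases hex : ∃ N : Subgroup G, N.Normal ∧ ¬ 3 ∣ Nat.card N ∧ N ≠ ⊥
    · obtain ⟨N0, hN0, hN03, hN01⟩ := hex
      obtain ⟨N, hle, ⟨hNn, hN3⟩, hNmax⟩ := Finite.exists_le_maximal
        (p := fun N : Subgroup G => N.Normal ∧ ¬ 3 ∣ Nat.card N) ⟨hN0, hN03⟩
      haveI := hNn
      have hmax : ∀ M : Subgroup G, M.Normal → ¬ 3 ∣ Nat.card M → N ≤ M → M = N :=
        fun M h1 h2 h3 => le_antisymm (hNmax ⟨h1, h2⟩ h3) h3
      have hN1 : N ≠ ⊥ := fun e => hN01 (le_bot_iff.1 (e ▸ hle))
      have hI : Inv x N := ⟨le_normalizer_of_normal (K := ⊤) (mem_top x), hN3⟩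
      have hq := h.quotient N hN3
      have hQd : Dich (G ⧸ N) := ih (G ⧸ N) (by
        have h1 := card_eq_card_quotient_mul_card_subgroup N
        haveI : Nontrivial N := (nontrivial_iff_ne_bot N).2 hN1
        have h2 : 1 < Nat.card N := Finite.one_lt_card
        have h3 : Nat.card (G ⧸ N) * 2 ≤ Nat.card (G ⧸ N) * Nat.card N := Nat.mul_le_mul_left _ h2
        have : 0 < Nat.card (G ⧸ N) := Nat.card_pos
        omega) _ hq
      have hcore : ∀ N' : Subgroup (G ⧸ N), N'.Normal → ¬ 3 ∣ Nat.card N' → N' = ⊥ := by
        intro N' hN' h3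
        have h1 : Inv (x : G ⧸ N) N' := ⟨le_normalizer_of_normal (K := ⊤) (mem_top _), h3⟩
        have h2 := hmax (N'.comap (QuotientGroup.mk' N)) (hN'.comap _) (h1.comap_mk h hN3).cop (by
          conv_lhs => rw [← QuotientGroup.ker_mk' N]
          exact ker_le_comap _ _)
        have h4 := map_comap_eq_self_of_surjective (QuotientGroup.mk'_surjective N) N'
        rw [h2] at h4
        rw [← h4, map_mk_eq_bot]
      rcases hQd with ⟨N', hN', -, hcop, hQ⟩ | ⟨E, hE, -, hsq, ⟨e⟩⟩ | h7
      · have hb := hcore N' hN' (Nat.prime_three.coprime_iff_not_dvd.1 hcop.symm)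
        subst hb
        obtain ⟨eb⟩ := quotient_bot_equiv (G := G ⧸ N)
        refine Or.inl ⟨N, hNn, hI.nilpotent h, (Nat.prime_three.coprime_iff_not_dvd.2 hN3).symm, ?_⟩
        rcases hQ with e | ⟨⟨e⟩⟩
        · left; rwa [← Nat.card_congr eb.toEquiv]
        · exact Or.inr ⟨eb.symm.trans e⟩
      · have hE3 : ¬ 3 ∣ Nat.card E := fun e3 => by
          obtain ⟨⟨a, ha⟩, hao⟩ := exists_prime_orderOf_dvd_card' 3 e3
          rw [orderOf_mk] at hao
          have := orderOf_dvd_of_pow_eq_one (hsq a ha)
          rw [hao] at this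
          omega
        have hb := hcore E hE hE3
        subst hb
        obtain ⟨eb⟩ := quotient_bot_equiv (G := G ⧸ N)
        let eA : G ⧸ N ≃* alternatingGroup (Fin 5) := eb.symm.trans e
        haveI : Fact (Nat.Prime 2) := ⟨Nat.prime_two⟩
        have hN2 : IsPGroup 2 N := by
          by_contra hnot
          obtain ⟨r, hr, hrd, hr2⟩ : ∃ r, r.Prime ∧ r ∣ Nat.card N ∧ r ≠ 2 := by
            by_contra hc
            push Not at hc
            exact hnot (IsPGroup.of_card (n := (Nat.card N).primeFactorsList.length)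
              (Nat.eq_prime_pow_of_unique_prime_dvd Nat.card_pos.ne' fun {d} hd hdd => hc d hd hdd))
          haveI : Fact r.Prime := ⟨hr⟩
          have hy : Hyp (eA (x : G ⧸ N)) := by
            refine ⟨by rw [eA.orderOf_eq]; exact hq.ord, fun g hg => ?_⟩
            have hg' : Commute (eA.symm g) (x : G ⧸ N) := by
              refine eA.injective ?_
              rw [map_mul, map_mul, eA.apply_symm_apply]
              exact hg
            obtain ⟨k, hk⟩ := mem_zpowers_iff.1 (hq.cent _ hg')
            exact mem_zpowers_iff.2 ⟨k, by rw [← map_zpow, hk, eA.apply_symm_apply]⟩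
          obtain ⟨V, hV, hVx⟩ := exists_four hy
          have hc4 : Nat.card (V.comap eA.toMonoidHom) = 4 := by
            rw [← card_map_of_injective (f := eA.toMonoidHom) eA.injective,
              map_comap_eq_self_of_surjective eA.surjective, hV]
          have hLI : Inv (x : G ⧸ N) (V.comap eA.toMonoidHom) :=
            ⟨le_normalizer_comap eA.toMonoidHom hVx, by rw [hc4]; norm_num⟩
          have hr4 : ¬ r ∣ 4 := fun hd =>
            hr2 ((Nat.prime_dvd_prime_iff_eq hr Nat.prime_two).1
              (hr.dvd_of_dvd_pow (show r ∣ 2 ^ 2 by norm_num; exact hd)))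
          have := core_part h hN3 hmax hrd hLI (by rw [hc4]; exact hr4)
          rw [this, card_bot] at hc4
          omega
        obtain ⟨eS⟩ := exists_sl_equiv
        have hF : ∃ a : GaloisField 2 2, a ≠ 0 ∧ a ≠ 1 := by
          by_contra hc
          push Not at hc
          have h1 : Nat.card (GaloisField 2 2) ≤ 2 := by
            refine le_trans (Nat.card_le_card_of_surjective (fun i : Fin 2 => if i = 0 then 0 else 1)
              fun a => ?_) (Nat.card_fin 2).le
            by_cases ha : a = 0
            · exact ⟨0, by simp [ha]⟩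
            · exact ⟨1, by simp [hc a ha]⟩
          rw [GaloisField.card 2 2 (by norm_num)] at h1
          omega
        let p : G →* SL(2, GaloisField 2 2) :=
          (eA.trans eS).toMonoidHom.comp (QuotientGroup.mk' N)
        have hp : Function.Surjective p := (eA.trans eS).surjective.comp (QuotientGroup.mk'_surjective N)
        have hker : p.ker = N := by
          ext a
          simp [p, MonoidHom.mem_ker]
        obtain ⟨hab, hel⟩ := CfsgLib.LocalEvenB.HigmanSL2.elementary hF (Nat.card G) G N hN2 le_rfl p hp
          hker x h.ord (fun q hq1 hq2 => hI.fixed h hq1 (mul_inv_eq_iff_eq_mul.1 hq2).symm)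
        exact Or.inr (Or.inl ⟨N, hNn, ⟨⟨fun a b => Subtype.ext (hab a a.2 b b.2)⟩⟩, hel, ⟨eA⟩⟩)
      · exfalso
        obtain ⟨e7⟩ := h7
        haveI : Fact (Nat.Prime 7) := ⟨by norm_num⟩
        haveI : IsSimpleGroup (Matrix.ProjectiveSpecialLinearGroup (Fin 2) (ZMod 7)) :=
          CfsgLib.Classical.psl_fin_isSimpleGroup (F := ZMod 7) le_rfl (fun _ => by simp [ZMod.card])
        haveI : Nontrivial (G ⧸ N) := ⟨⟨(x : G ⧸ N), 1, hq.ne_one⟩⟩
        haveI : IsSimpleGroup (G ⧸ N) :=
          IsSimpleGroup.isSimpleGroup_of_surjective e7.symm.toMonoidHom e7.symm.surjective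
        have h168 : Nat.card (G ⧸ N) = 168 := by
          rw [Nat.card_congr e7.toEquiv]
          exact Cfsg.Agent.S0495.card168 (ZMod.card 7)
        obtain ⟨r, hr, hrd⟩ := Nat.exists_prime_and_dvd (n := Nat.card N) (fun e => hN1 (card_eq_one.1 e))
        haveI : Fact r.Prime := ⟨hr⟩
        haveI : Fact (Nat.Prime 2) := ⟨Nat.prime_two⟩
        obtain ⟨P, hPp, hP3, hrP⟩ : ∃ P : Subgroup (G ⧸ N), P ≠ ⊥ ∧
            (¬ 3 ∣ Nat.card P ∧ 3 ∣ Nat.card (normalizer (P : Set (G ⧸ N)))) ∧ ¬ r ∣ Nat.card P := by
          by_cases hr7 : r = 7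
          · obtain ⟨T⟩ : Nonempty (Sylow 2 (G ⧸ N)) := inferInstance
            obtain ⟨U, W, -, hU, -, hUk, -⟩ := CfsgLib.SmallGroups.Order168.klein_in_sylow h168 T
            have h4 : Nat.card U = 4 := hUk.card_four
            refine ⟨U, fun e => by rw [e, card_bot] at h4; omega, ⟨by rw [h4]; norm_num, ?_⟩, ?_⟩
            · rw [CfsgLib.SmallGroups.Order168.card_normalizer_klein h168 hUk]; norm_num
            · rw [h4, hr7]; norm_num
          · obtain ⟨P⟩ : Nonempty (Sylow 7 (G ⧸ N)) := inferInstance
            have h7c := CfsgLib.SmallGroups.Order168.card_seven h168 P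
            refine ⟨P, fun e => by rw [e, card_bot] at h7c; omega, ⟨by rw [h7c]; norm_num, ?_⟩, ?_⟩
            · rw [CfsgLib.SmallGroups.Order168.card_normalizer_seven h168 P]; norm_num
            · rw [h7c]
              exact fun hd => hr7 ((Nat.prime_dvd_prime_iff_eq hr (by norm_num)).1 hd)
        obtain ⟨g, hg⟩ := hq.exists_inv_conj hP3.1 hP3.2
        have := core_part h hN3 hmax hrd hg (by rw [card_conjOf]; exact hrP)
        exact hPp (by rwa [conjOf, map_eq_bot_iff_of_injective _ (MulAut.conj g).injective] at this)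
    · push Not at hex
      by_cases hxn : (zpowers x).Normal
      · -- `⟨x⟩` is normal
        haveI := hxn
        haveI hbn : (⊥ : Subgroup G).Normal := inferInstance
        refine Or.inl ⟨⊥, hbn, inferInstance, by rw [card_bot]; exact Nat.coprime_one_left 3, ?_⟩
        obtain ⟨eb⟩ := quotient_bot_equiv (G := G)
        have hcase : ∀ g : G, g ∈ zpowers x ∨ g * x * g⁻¹ = x⁻¹ := fun g => by
          rcases h.cases (hxn.conj_mem x (mem_zpowers x) g) with e | e | e
          · exact absurd (by simpa using e) h.ne_one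
          · exact Or.inl (h.cent g (mul_inv_eq_iff_eq_mul.1 e))
          · exact Or.inr e
        by_cases htop : zpowers x = ⊤
        · left
          rw [Nat.card_congr eb.toEquiv, ← Nat.card_congr (topEquiv (G := G)).toEquiv, ← htop,
            h.card_zpowers]
        · right
          have hx1 : x ≠ x⁻¹ := fun e0 => by
            have h2 : orderOf x ∣ 2 := orderOf_dvd_of_pow_eq_one (by
              rw [pow_two]; nth_rewrite 2 [e0]; exact mul_inv_cancel x)
            rw [h.ord] at h2; omega
          have hidx : (zpowers x).index = 2 := by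
            obtain ⟨w, hw⟩ := SetLike.exists_of_lt (lt_top_iff_ne_top.2 htop)
            refine index_eq_two_iff.2 ⟨w, fun b => ?_⟩
            have hwx := (hcase w).resolve_left hw.2
            by_cases hb : b ∈ zpowers x
            · refine Or.inr ⟨hb, fun hbw => hw.2 ?_⟩
              have := mul_mem (inv_mem hb) hbw
              rwa [inv_mul_cancel_left] at this
            · have hbx := (hcase b).resolve_left hb
              refine Or.inl ⟨?_, hb⟩
              rcases hcase (b * w) with e | e
              · exact e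
              · exfalso
                apply hx1
                calc x = (x⁻¹)⁻¹ := (inv_inv x).symm
                  _ = b * (w * x * w⁻¹) * b⁻¹ := by
                    rw [hwx, show b * x⁻¹ * b⁻¹ = (b * x * b⁻¹)⁻¹ by group, hbx]
                  _ = x⁻¹ := by rw [← e]; group
          rcases h.exists_invert with ⟨u, hu, hu1, hux⟩ | ⟨M, hM, hM3, hMc⟩
          · refine ⟨eb.trans (perm_three_of (zpowers u) ?_ ?_ ?_).some⟩
            · have h6 := (zpowers x).card_mul_index
              rw [h.card_zpowers, hidx] at h6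
              have h2 : Nat.card (zpowers u) = 2 := by
                rw [Nat.card_zpowers]; exact orderOf_eq_prime (by rw [pow_two]; exact hu) hu1
              have := (zpowers u).card_mul_index
              rw [h2, ← h6] at this
              omega
            · rw [Nat.card_zpowers]; exact orderOf_eq_prime (by rw [pow_two]; exact hu) hu1
            · intro hn'
              have hmem := hn'.conj_mem u (mem_zpowers u) x
              have h2 : orderOf u = 2 := orderOf_eq_prime (by rw [pow_two]; exact hu) hu1
              obtain ⟨k, hk⟩ := mem_zpowers_iff.1 hmem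
              rw [← zpow_mod_orderOf, h2] at hk
              rcases Int.emod_two_eq_zero_or_one k with e | e <;>
                simp only [Nat.cast_ofNat, e, zpow_zero, zpow_one] at hk
              · exact hu1 (by
                  calc u = x⁻¹ * (x * u * x⁻¹) * x := by group
                    _ = 1 := by rw [← hk]; group)
              · refine hx1 ?_
                have hc : u * x = x * u := (mul_inv_eq_iff_eq_mul.1 hk.symm).symm
                rw [← hux, hc, mul_inv_cancel_right]
          · exfalso
            have h6 := (zpowers x).card_mul_index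
            rw [h.card_zpowers, hidx, hMc] at h6
            have hM1 := hex M hM hM3
            rw [hM1, card_bot] at h6
            omega
      · -- the group is simple
        haveI : Nontrivial G := ⟨⟨x, 1, h.ne_one⟩⟩
        haveI hsimple : IsSimpleGroup G := by
          refine ⟨fun M hM => ?_⟩
          by_contra hc
          push Not at hc
          obtain ⟨hM1, hMt⟩ := hc
          haveI := hM
          have h3 : 3 ∣ Nat.card M := by
            by_contra h3
            exact hM1 (hex M hM h3)
          obtain ⟨⟨y, hy⟩, hyo⟩ := exists_prime_orderOf_dvd_card' 3 h3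
          rw [orderOf_mk] at hyo
          obtain ⟨g, -, e⟩ := h.conj_of_orderOf (H := ⊤) (mem_top x) (mem_top y) hyo
          have hxM : x ∈ M := by
            have := hM.conj_mem y hy g⁻¹
            rw [inv_inv] at this
            rcases e with e | e
            · rwa [e, show g⁻¹ * (g * x * g⁻¹) * g = x by group] at this
            · rw [e, show g⁻¹ * (g * x⁻¹ * g⁻¹) * g = x⁻¹ by group] at this
              simpa using inv_mem this
          rcases (h.subgroup hxM).exists_invert with ⟨u, -, -, hux⟩ | ⟨K, hK, hK3, hKc⟩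
          · apply hMt
            rw [eq_top_iff']
            intro a
            have hux' : (u : G) * x * (u : G)⁻¹ = x⁻¹ := congrArg Subtype.val hux
            obtain ⟨m, hm, hcs⟩ := h.conj_of_orderOf hxM (hM.conj_mem x hxM a)
              (by rw [show a * x * a⁻¹ = MulAut.conj a x from rfl, MulEquiv.orderOf_eq]; exact h.ord)
            have key : ∀ b : G, b * x * b⁻¹ = x → b ∈ M := fun b hb =>
              zpowers_le.2 hxM (h.cent b (mul_inv_eq_iff_eq_mul.1 hb))
            rcases hcs with e | e
            · have := key (m⁻¹ * a) (by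
                calc m⁻¹ * a * x * (m⁻¹ * a)⁻¹ = m⁻¹ * (a * x * a⁻¹) * m := by group
                  _ = x := by rw [e]; group)
              have := M.mul_mem hm this
              rwa [mul_inv_cancel_left] at this
            · have := key ((u : G) * (m⁻¹ * a)) (by
                calc (u : G) * (m⁻¹ * a) * x * ((u : G) * (m⁻¹ * a))⁻¹
                    = (u : G) * (m⁻¹ * (a * x * a⁻¹) * m) * (u : G)⁻¹ := by group
                  _ = ((u : G) * x * (u : G)⁻¹)⁻¹ := by rw [e]; group
                  _ = x := by rw [hux', inv_inv])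
              have := M.mul_mem hm (M.mul_mem (M.inv_mem u.2) this)
              rwa [inv_mul_cancel_left, mul_inv_cancel_left] at this
          · haveI := hK
            haveI hKG : (K.map M.subtype).Normal := by
              haveI : K.Characteristic := by
                refine characteristic_iff_map_le.2 fun f => ?_
                intro a ha
                obtain ⟨b, hb, rfl⟩ := mem_map.1 ha
                have hidx : K.index = 3 := by
                  have h1 := K.index_mul_card
                  rw [hKc] at h1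
                  exact Nat.eq_of_mul_eq_mul_right Nat.card_pos h1
                rw [← QuotientGroup.eq_one_iff, ← orderOf_eq_one_iff]
                refine Nat.eq_one_of_dvd_coprimes ((Nat.prime_three.coprime_iff_not_dvd.2 hK3).symm) ?_ ?_
                · refine (orderOf_map_dvd (QuotientGroup.mk' K) (f b)).trans ?_
                  rw [MulEquiv.orderOf_eq]
                  exact (orderOf_mk b hb ▸ orderOf_dvd_natCard (⟨b, hb⟩ : K))
                · exact hidx ▸ (orderOf_dvd_natCard _)
              infer_instance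
            have hKb := hex _ hKG (by rwa [card_map_of_injective M.subtype_injective])
            have hK1 : Nat.card K = 1 := by
              rw [← card_map_of_injective M.subtype_injective, hKb, card_bot]
            rw [hK1, mul_one] at hKc
            apply hxn
            have : zpowers x = M := eq_of_le_of_card_ge (zpowers_le.2 hxM) (by rw [hKc, h.card_zpowers])
            rw [this]; exact hM
        have hnc : ¬ IsMulCommutative G := fun hc => hxn (by
          haveI := hc
          exact normal_of_isMulCommutative _)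
        rcases simple_order hnc h hloc with h60 | h168
        · obtain ⟨e⟩ := Cfsg.Agent.S0494.result h60
          haveI hbn : (⊥ : Subgroup G).Normal := inferInstance
          obtain ⟨eb⟩ := quotient_bot_equiv (G := G)
          exact Or.inr (Or.inl ⟨⊥, hbn,
            ⟨⟨fun a b => Subtype.ext (by simp [mem_bot.1 a.2, mem_bot.1 b.2])⟩⟩,
            fun a ha => by rw [mem_bot.1 ha, one_pow], ⟨eb.trans e⟩⟩)
        · haveI : Fact (Nat.Prime 7) := ⟨by norm_num⟩
          exact Or.inr (Or.inr (Cfsg.Agent.S0495.result h168 (F := ZMod 7) (ZMod.card 7)))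

end CfsgLib.Recognition.SelfCentThree
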