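import Cfsg.Agent.Lib.Recognition.SelfCentThree.Basic
import Cfsg.Agent.Lib.Classical.SLBasic

/-!
# Consequences of the three conclusions
-/

set_option autoImplicit false

namespace CfsgLib.Recognition.SelfCentThree

open Subgroup

local notation "A5" => alternatingGroup (Fin 5)

/-- A four-group of even permutations. -/
def klein : Finset (Equiv.Perm (Fin 5)) :=
  {1, Equiv.swap 0 1 * Equiv.swap 2 3, Equiv.swap 0 2 * Equiv.swap 1 3,
    Equiv.swap 0 3 * Equiv.swap 1 2}

theorem klein_facts : klein.card = 4 ∧ (∀ a ∈ klein, Equiv.Perm.sign a = 1) ∧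
    (∀ a ∈ klein, ∀ b ∈ klein, a * b ∈ klein) ∧ (∀ a ∈ klein, a⁻¹ ∈ klein) ∧
    (∀ a ∈ klein, (Equiv.swap 0 1 * Equiv.swap 1 2) * a * (Equiv.swap 0 1 * Equiv.swap 1 2)⁻¹ ∈ klein) ∧
    (Equiv.swap (0 : Fin 5) 1 * Equiv.swap 1 2) ^ 3 = 1 ∧
    Equiv.swap (0 : Fin 5) 1 * Equiv.swap 1 2 ≠ 1 := by
  refine ⟨?_, ?_, ?_, ?_, ?_, ?_, ?_⟩ <;> decide +kernel

theorem card_A5 : Nat.card A5 = 60 := by
  rw [nat_card_alternatingGroup, Nat.card_fin]
  decide

/-- An element of order three with the centraliser hypothesis normalises a four-group. -/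
theorem exists_four {y : A5} (hy : Hyp y) :
    ∃ V : Subgroup A5, Nat.card V = 4 ∧ y ∈ normalizer (V : Set A5) := by
  obtain ⟨hc, hsgn, hmul, hinv, hnorm, h3, h1⟩ := klein_facts
  let V : Subgroup A5 :=
    { carrier := {a | (a : Equiv.Perm (Fin 5)) ∈ klein}
      one_mem' := by simp [klein]
      mul_mem' := fun {a b} ha hb => by simpa using hmul _ ha _ hb
      inv_mem' := fun {a} ha => by simpa using hinv _ ha }
  have hV : Nat.card V = 4 := by
    rw [← hc, ← Fintype.card_coe, ← Nat.card_eq_fintype_card]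
    exact Nat.card_congr
      { toFun := fun a => ⟨((a : A5) : Equiv.Perm (Fin 5)), a.2⟩
        invFun := fun a => ⟨⟨a.1, Equiv.Perm.mem_alternatingGroup.2 (hsgn _ a.2)⟩, a.2⟩
        left_inv := fun a => rfl
        right_inv := fun a => rfl }
  let s : A5 := ⟨Equiv.swap 0 1 * Equiv.swap 1 2, Equiv.Perm.mem_alternatingGroup.2 (by simp)⟩
  have hs : s ∈ normalizer (V : Set A5) := by
    have hle : V.map (MulAut.conj s).toMonoidHom ≤ V := by
      rintro _ ⟨a, ha, rfl⟩
      show ((s * a * s⁻¹ : A5) : Equiv.Perm (Fin 5)) ∈ klein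
      push_cast
      exact hnorm _ ha
    exact mem_normalizer_iff_map_conj_eq.2 (eq_of_le_of_card_ge hle
      (card_map_of_injective (MulAut.conj s).injective).ge)
  have hso : orderOf s = 3 := orderOf_eq_prime (Subtype.ext (by simpa [s] using h3))
    (fun e => h1 (congrArg Subtype.val e))
  obtain ⟨g, -, hg⟩ := hy.conj_of_orderOf (H := ⊤) (mem_top y) (mem_top s) hso
  refine ⟨V.map (MulAut.conj g⁻¹).toMonoidHom,
    by rw [card_map_of_injective (MulAut.conj g⁻¹).injective, hV], ?_⟩
  have key : ∀ w ∈ normalizer (V : Set A5),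
      g⁻¹ * w * g ∈ normalizer ((V.map (MulAut.conj g⁻¹).toMonoidHom : Subgroup A5) : Set A5) := by
    intro w hw
    rw [mem_normalizer_iff_map_conj_eq, map_map]
    conv_rhs => rw [← mem_normalizer_iff_map_conj_eq.1 hw, map_map]
    congr 1
    ext a
    simp [mul_assoc]
  rcases hg with e | e
  · have := key s hs
    rwa [e, show g⁻¹ * (g * y * g⁻¹) * g = y by group] at this
  · have := inv_mem (key s hs)
    rwa [e, show (g⁻¹ * (g * y⁻¹ * g⁻¹) * g)⁻¹ = y by group] at this

variable {G : Type*} [Group G] [Finite G] {x : G}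

theorem Inv.map_mk (N : Subgroup G) [N.Normal] {L : Subgroup G} (hL : Inv x L) :
    Inv (x : G ⧸ N) (L.map (QuotientGroup.mk' N)) :=
  ⟨le_normalizer_map (QuotientGroup.mk' N) (mem_map_of_mem _ hL.norm),
    fun e => hL.cop (e.trans (card_map_dvd _ _))⟩

theorem map_mk_eq_bot {N : Subgroup G} [N.Normal] {L : Subgroup G} :
    L.map (QuotientGroup.mk' N) = ⊥ ↔ L ≤ N := by
  rw [Subgroup.map_eq_bot_iff, QuotientGroup.ker_mk']

/-- How a group satisfying the conclusion looks around a nontrivial proper normal subgroup of order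
prime to three. -/
theorem Dich.of_normal (h : Hyp x) (hd : Dich G) {D : Subgroup G} [D.Normal] (hD1 : D ≠ ⊥)
    (hD : ¬ 3 ∣ Nat.card D) :
    (∃ O : Subgroup G, O.Normal ∧ ¬ 3 ∣ Nat.card O ∧ (∀ L, Inv x L → L ≤ O) ∧
      (Nat.card G = 3 * Nat.card O ∨ Nat.card G = 6 * Nat.card O)) ∨
    (∃ E : Subgroup G, E.Normal ∧ IsPGroup 2 E ∧ D ≤ E ∧
      (∃ L, Inv x L ∧ E < L) ∧ ∀ L, Inv x L → Odd (E.relIndex L) → L ≤ E) := by
  rcases hd with ⟨N, hN, -, hcop, hQ⟩ | ⟨E, hE, -, hsq, ⟨e⟩⟩ | h7
  · haveI := hN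
    have hN3 : ¬ 3 ∣ Nat.card N := (Nat.prime_three.coprime_iff_not_dvd).1 hcop.symm
    have hq : Nat.card (G ⧸ N) = 3 ∨ Nat.card (G ⧸ N) = 6 := by
      rcases hQ with e | ⟨⟨e⟩⟩
      · exact Or.inl e
      · right
        rw [Nat.card_congr e.toEquiv, Nat.card_perm, Nat.card_fin]
        rfl
    refine Or.inl ⟨N, hN, hN3, fun L hL => ?_, ?_⟩
    · rw [← map_mk_eq_bot, ← card_eq_one]
      have h1 := (hL.map_mk N).card_mod (h.quotient N hN3)
      have h2 : Nat.card (L.map (QuotientGroup.mk' N)) ∣ 6 :=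
        (card_subgroup_dvd_card _).trans (by rcases hq with e | e <;> rw [e]; norm_num)
      have h3 := Nat.le_of_dvd (by norm_num) h2
      generalize Nat.card (L.map (QuotientGroup.mk' N)) = k at h1 h2 h3 ⊢
      interval_cases k <;> omega
    · have := card_eq_card_quotient_mul_card_subgroup N
      rcases hq with e | e <;> rw [e] at this
      · exact Or.inl this
      · exact Or.inr this
  · haveI := hE
    haveI : Fact (Nat.Prime 2) := ⟨Nat.prime_two⟩
    have hE2 : IsPGroup 2 E := fun a => ⟨1, Subtype.ext (by simpa using hsq a a.2)⟩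
    have hE3 : ¬ 3 ∣ Nat.card E := fun e3 => by
      obtain ⟨k, hk⟩ := IsPGroup.iff_card.1 hE2
      rw [hk] at e3
      have := (Nat.prime_dvd_prime_iff_eq Nat.prime_three Nat.prime_two).1
        (Nat.prime_three.dvd_of_dvd_pow e3)
      omega
    have hq : Nat.card (G ⧸ E) = 60 := by rw [Nat.card_congr e.toEquiv, card_A5]
    haveI : IsSimpleGroup A5 := alternatingGroup.isSimpleGroup (by simp)
    have hDE : D ≤ E := by
      rw [← map_mk_eq_bot]
      haveI hn : (D.map (QuotientGroup.mk' E)).Normal :=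
        Normal.map inferInstance _ (QuotientGroup.mk'_surjective E)
      have hne : D.map (QuotientGroup.mk' E) ≠ ⊤ := fun e0 => hD (by
        refine dvd_trans ?_ (card_map_dvd D (QuotientGroup.mk' E))
        rw [e0, card_top, hq]; norm_num)
      haveI : IsSimpleGroup (G ⧸ E) :=
        haveI : Nontrivial (G ⧸ E) := Finite.one_lt_card_iff_nontrivial.1 (by rw [hq]; norm_num)
        IsSimpleGroup.isSimpleGroup_of_surjective e.symm.toMonoidHom e.symm.surjective
      exact hn.eq_bot_or_eq_top.resolve_right hne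
    refine Or.inr ⟨E, hE, hE2, hDE, ?_, fun L hL hodd => ?_⟩
    · have hy : Hyp (e (x : G ⧸ E)) := by
        have h' := h.quotient E hE3
        refine ⟨by rw [e.orderOf_eq]; exact h'.ord, fun g hg => ?_⟩
        have hg' : Commute (e.symm g) (x : G ⧸ E) := by
          refine e.injective ?_
          rw [map_mul, map_mul, e.apply_symm_apply]
          exact hg
        obtain ⟨k, hk⟩ := mem_zpowers_iff.1 (h'.cent _ hg')
        exact mem_zpowers_iff.2 ⟨k, by rw [← map_zpow, hk, e.apply_symm_apply]⟩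
      obtain ⟨V, hV, hyV⟩ := exists_four hy
      let f : G →* A5 := e.toMonoidHom.comp (QuotientGroup.mk' E)
      have hf : Function.Surjective f := e.surjective.comp (QuotientGroup.mk'_surjective E)
      have hfx : f x = e (x : G ⧸ E) := rfl
      have hker : f.ker = E := by
        ext a
        simp [f, MonoidHom.mem_ker]
      refine ⟨V.comap f, ⟨?_, fun e3 => ?_⟩, ?_⟩
      · refine le_normalizer_comap f ?_
        show f x ∈ normalizer (V : Set A5)
        rw [hfx]; exact hyV
      · have h1 := (V.comap f).card_mul_index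
        rw [index_comap_of_surjective V hf] at h1
        have h2 := V.card_mul_index
        rw [hV, card_A5] at h2
        have h4 := card_eq_card_quotient_mul_card_subgroup E
        rw [hq] at h4
        apply hE3
        have h15 : V.index = 15 := by omega
        rw [h15] at h1
        have : Nat.card (V.comap f) = 4 * Nat.card E := by omega
        rw [this] at e3
        exact (Nat.prime_three.dvd_mul.1 e3).resolve_left (by norm_num)
      · refine lt_of_le_of_ne (hker ▸ ker_le_comap f V) fun e0 => ?_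
        have hb : V = ⊥ := by
          have := map_comap_eq_self_of_surjective hf V
          rw [← this, ← e0, Subgroup.map_eq_bot_iff, hker]
        rw [hb, card_bot] at hV
        omega
    · rw [← map_mk_eq_bot, ← card_eq_one]
      have h1 := (hL.map_mk E).card_mod (h.quotient E hE3)
      have h2 : Nat.card (L.map (QuotientGroup.mk' E)) ∣ 60 := hq ▸ card_subgroup_dvd_card _
      have h4 : Nat.card (L.map (QuotientGroup.mk' E)) = E.relIndex L := by
        rw [← relIndex_ker, QuotientGroup.ker_mk']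
      obtain ⟨j, hj⟩ := hodd
      rw [← h4] at hj
      have h3 := Nat.le_of_dvd (by norm_num) h2
      generalize Nat.card (L.map (QuotientGroup.mk' E)) = k at h1 h2 h3 hj ⊢
      interval_cases k <;> omega
  · exfalso
    obtain ⟨e⟩ := h7
    haveI : Fact (Nat.Prime 7) := ⟨by norm_num⟩
    haveI : IsSimpleGroup (Matrix.ProjectiveSpecialLinearGroup (Fin 2) (ZMod 7)) :=
      CfsgLib.Classical.psl_fin_isSimpleGroup (F := ZMod 7) le_rfl (fun _ => by simp [ZMod.card])
    haveI : Nontrivial G := by
      have h1 := h.ne_one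
      exact ⟨⟨x, 1, h1⟩⟩
    haveI : IsSimpleGroup G := IsSimpleGroup.isSimpleGroup_of_surjective e.symm.toMonoidHom e.symm.surjective
    rcases (show D.Normal from inferInstance).eq_bot_or_eq_top with e0 | e0
    · exact hD1 e0
    · apply hD
      rw [e0, card_top, ← h.ord]
      exact orderOf_dvd_natCard x

end CfsgLib.Recognition.SelfCentThree
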