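import Cfsg.Agent.Lib.OddOrder.FPFTools
import Mathlib

/-!
# A self-centralising subgroup of order three: basic facts
-/

set_option autoImplicit false

namespace CfsgLib.Recognition.SelfCentThree

open Subgroup

variable {G : Type*} [Group G]

/-- `x` has order three and generates its own centraliser. -/
structure Hyp (x : G) : Prop where
  ord : orderOf x = 3
  cent : ∀ g : G, Commute g x → g ∈ zpowers x

/-- A subgroup of order prime to three normalised by `x`. -/
structure Inv (x : G) (K : Subgroup G) : Prop where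
  norm : x ∈ normalizer (K : Set G)
  cop : ¬ 3 ∣ Nat.card K

variable {x : G}

theorem Hyp.pow_three (h : Hyp x) : x ^ 3 = 1 := h.ord ▸ pow_orderOf_eq_one x

theorem Hyp.inv_eq (h : Hyp x) : x⁻¹ = x ^ 2 :=
  inv_eq_of_mul_eq_one_right (by rw [← pow_succ']; exact h.pow_three)

theorem Hyp.ne_one (h : Hyp x) : x ≠ 1 := fun e => by
  have := h.ord; rw [e, orderOf_one] at this; omega

theorem Hyp.card_zpowers (h : Hyp x) : Nat.card (zpowers x) = 3 := by
  rw [Nat.card_zpowers, h.ord]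

theorem Hyp.cases (h : Hyp x) {g : G} (hg : g ∈ zpowers x) : g = 1 ∨ g = x ∨ g = x⁻¹ := by
  classical
  have hx : IsOfFinOrder x := orderOf_pos_iff.1 (by rw [h.ord]; norm_num)
  obtain ⟨k, rfl⟩ := hx.mem_powers_iff_mem_zpowers.2 hg
  show x ^ k = 1 ∨ x ^ k = x ∨ x ^ k = x⁻¹
  rw [← pow_mod_orderOf, h.ord, h.inv_eq]
  rcases (show k % 3 = 0 ∨ k % 3 = 1 ∨ k % 3 = 2 by omega) with e | e | e <;> simp [e]

theorem Hyp.subgroup (h : Hyp x) {H : Subgroup G} (hx : x ∈ H) : Hyp (⟨x, hx⟩ : H) where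
  ord := by rw [orderOf_mk]; exact h.ord
  cent g hg := by
    rcases h.cases (h.cent g (congrArg Subtype.val hg)) with e | e | e
    · rw [show g = 1 from Subtype.ext e]; exact one_mem _
    · rw [show g = ⟨x, hx⟩ from Subtype.ext e]; exact mem_zpowers _
    · rw [show g = ⟨x, hx⟩⁻¹ from Subtype.ext e]; exact inv_mem (mem_zpowers _)

theorem Inv.fixed {K : Subgroup G} (hK : Inv x K) (h : Hyp x) {k : G} (hk : k ∈ K)
    (hc : Commute k x) : k = 1 := by
  by_contra h1
  have hz : zpowers k = zpowers x := by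
    have hle : zpowers k ≤ zpowers x := zpowers_le.2 (h.cent k hc)
    rcases h.cases (h.cent k hc) with e | e | e
    · exact absurd e h1
    · rw [e]
    · rw [e, zpowers_inv]
  apply hK.cop
  rw [← h.card_zpowers, ← hz]
  exact card_dvd_of_le (zpowers_le.2 hk)

theorem Inv.conj_mem {K : Subgroup G} (hK : Inv x K) {k : G} (hk : k ∈ K) :
    x * k * x⁻¹ ∈ K := (mem_normalizer_iff.1 hK.norm k).1 hk

theorem Inv.not_mem {K : Subgroup G} (hK : Inv x K) (h : Hyp x) : x ∉ K := fun hx =>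
  h.ne_one (hK.fixed h hx (Commute.refl x))

theorem Inv.conj_inj {K : Subgroup G} (hK : Inv x K) (h : Hyp x) {k k' : G} (hk : k ∈ K)
    (hk' : k' ∈ K) (e : k * x * k⁻¹ = k' * x * k'⁻¹) : k = k' := by
  refine inv_mul_eq_one.1 (hK.fixed h (mul_mem (inv_mem hk) hk') ?_)
  show k⁻¹ * k' * x = x * (k⁻¹ * k')
  calc k⁻¹ * k' * x = k⁻¹ * (k' * x * k'⁻¹) * k' := by group
    _ = x * (k⁻¹ * k') := by rw [← e]; group

/-- The coset of `x` consists of conjugates of `x`. -/
theorem Inv.exists_conj [Finite G] {K : Subgroup G} (hK : Inv x K) (h : Hyp x) {k : G} (hk : k ∈ K) :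
    ∃ k' ∈ K, k' * x * k'⁻¹ = k * x := by
  have hm : ∀ a : K, (a : G) * x * (a : G)⁻¹ * x⁻¹ ∈ K := fun a => by
    rw [show (a : G) * x * (a : G)⁻¹ * x⁻¹ = a * (x * (a : G)⁻¹ * x⁻¹) by group]
    exact mul_mem a.2 (hK.conj_mem (inv_mem a.2))
  let f : K → K := fun a => ⟨(a : G) * x * (a : G)⁻¹ * x⁻¹, hm a⟩
  have hf : Function.Injective f := fun a b e =>
    Subtype.ext (hK.conj_inj h a.2 b.2 (mul_right_cancel (congrArg Subtype.val e)))
  obtain ⟨a, ha⟩ := Finite.injective_iff_surjective.1 hf ⟨k, hk⟩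
  refine ⟨a, a.2, ?_⟩
  have := congrArg Subtype.val ha
  simp only [f] at this
  rw [← this]; group

theorem Inv.bot (h : Hyp x) : Inv x (⊥ : Subgroup G) := by
  refine ⟨?_, by rw [card_bot]; norm_num⟩
  rw [mem_normalizer_iff]
  intro y
  simp [Subgroup.mem_bot]

theorem Inv.mono_cop [Finite G] {K L : Subgroup G} (hK : Inv x K) (hle : L ≤ K)
    (hx : x ∈ normalizer (L : Set G)) : Inv x L :=
  ⟨hx, fun e => hK.cop (e.trans (card_dvd_of_le hle))⟩

theorem Inv.nilpotent [Finite G] {K : Subgroup G} (hK : Inv x K) (h : Hyp x) :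
    Group.IsNilpotent K :=
  CfsgLib.OddOrder.FPFTools.isNilpotent_of_fpf Nat.prime_three h.pow_three hK.norm
    ((Subgroup.eq_bot_iff_forall _).2 fun k hk =>
      hK.fixed h hk.1 (mem_centralizer_singleton_iff.1 hk.2))

theorem Inv.card_mod [Finite G] {K : Subgroup G} (hK : Inv x K) (h : Hyp x) :
    Nat.card K % 3 = 1 := by
  classical
  have hP : IsPGroup 3 (zpowers x) := IsPGroup.of_card (n := 1) (by rw [h.card_zpowers, pow_one])
  haveI : Fact (Nat.Prime 3) := ⟨Nat.prime_three⟩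
  have hle : zpowers x ≤ normalizer (K : Set G) := zpowers_le.2 hK.norm
  let act : MulAction (zpowers x) K :=
    { smul := fun g k => ⟨(g : G) * k * (g : G)⁻¹, (mem_normalizer_iff.1 (hle g.2) k).1 k.2⟩
      one_smul := fun k => Subtype.ext (by
        show ((1 : zpowers x) : G) * k * ((1 : zpowers x) : G)⁻¹ = k
        simp)
      mul_smul := fun a b k => Subtype.ext (by
        show ((a * b : zpowers x) : G) * k * ((a * b : zpowers x) : G)⁻¹ =
          (a : G) * ((b : G) * k * (b : G)⁻¹) * (a : G)⁻¹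
        push_cast; group) }
  letI := act
  have hm := hP.card_modEq_card_fixedPoints K
  have he : MulAction.fixedPoints (zpowers x) K = {1} := by
    ext k
    rw [MulAction.mem_fixedPoints, Set.mem_singleton_iff]
    constructor
    · intro hk
      have hkx : x * (k : G) * x⁻¹ = k := congrArg Subtype.val (hk ⟨x, mem_zpowers x⟩)
      exact Subtype.ext (hK.fixed h k.2 (mul_inv_eq_iff_eq_mul.1 hkx).symm)
    · rintro rfl g
      exact Subtype.ext (show (g : G) * ((1 : K) : G) * (g : G)⁻¹ = ((1 : K) : G) by simp)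
  rw [he] at hm
  simpa [Nat.ModEq] using hm

theorem Hyp.nine_not_dvd [Finite G] (h : Hyp x) : ¬ 9 ∣ Nat.card G := by
  intro h9
  haveI : Fact (Nat.Prime 3) := ⟨Nat.prime_three⟩
  have hP : IsPGroup 3 (zpowers x) := IsPGroup.of_card (n := 1) (by rw [h.card_zpowers, pow_one])
  obtain ⟨P, hle⟩ := hP.exists_le_sylow
  have hd : 3 ^ 2 ∣ Nat.card (P : Subgroup G) := P.pow_dvd_card_of_pow_dvd_card (by norm_num; exact h9)
  have hxP : x ∈ (P : Subgroup G) := hle (mem_zpowers x)
  haveI : Nontrivial (P : Subgroup G) := by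
    rw [← Finite.one_lt_card_iff_nontrivial]
    have := Nat.le_of_dvd Nat.card_pos hd
    omega
  haveI := P.2.center_nontrivial
  obtain ⟨z, hz⟩ := exists_ne (1 : center (P : Subgroup G))
  have hzx : Commute ((z : (P : Subgroup G)) : G) x :=
    congrArg Subtype.val ((mem_center_iff.1 z.2 ⟨x, hxP⟩).symm)
  have hxz : x ∈ zpowers ((z : (P : Subgroup G)) : G) := by
    rcases h.cases (h.cent _ hzx) with e | e | e
    · exact absurd (Subtype.ext (Subtype.ext e)) hz
    · rw [e]; exact mem_zpowers x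
    · rw [e, zpowers_inv]; exact mem_zpowers x
  have : (P : Subgroup G) ≤ zpowers x := fun p hp => by
    refine h.cent p ?_
    have hpz : Commute p ((z : (P : Subgroup G)) : G) :=
      congrArg Subtype.val (mem_center_iff.1 z.2 ⟨p, hp⟩)
    obtain ⟨k, hk⟩ := mem_zpowers_iff.1 hxz
    rw [← hk]
    exact hpz.zpow_right k
  have h3 := Nat.le_of_dvd (by rw [h.card_zpowers]; norm_num) (hd.trans (card_dvd_of_le this))
  rw [h.card_zpowers] at h3
  omega

/-- Inside a subgroup containing `x`, every element of order three is conjugate to `x` or `x⁻¹`. -/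
theorem Hyp.conj_of_orderOf [Finite G] (h : Hyp x) {H : Subgroup G} (hx : x ∈ H) {y : G} (hy : y ∈ H)
    (ho : orderOf y = 3) : ∃ g ∈ H, y = g * x * g⁻¹ ∨ y = g * x⁻¹ * g⁻¹ := by
  haveI : Fact (Nat.Prime 3) := ⟨Nat.prime_three⟩
  have key : ∀ z : H, orderOf z = 3 → ∃ Q : Sylow 3 H, (Q : Subgroup H) = zpowers z := by
    intro z hz
    refine ⟨Sylow.ofCard (zpowers z) ?_, rfl⟩
    rw [Nat.card_zpowers, hz]
    have h9 := (h.subgroup hx).nine_not_dvd
    have h3 : 3 ∣ Nat.card H := hz ▸ orderOf_dvd_natCard z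
    have h1 : (Nat.card H).factorization 3 = 1 := by
      have a1 : 3 ^ 1 ∣ Nat.card H := by rw [pow_one]; exact h3
      rw [Nat.Prime.pow_dvd_iff_le_factorization Nat.prime_three Nat.card_pos.ne'] at a1
      by_contra hne
      apply h9
      have a2 : 3 ^ 2 ∣ Nat.card H :=
        (Nat.Prime.pow_dvd_iff_le_factorization Nat.prime_three Nat.card_pos.ne').2 (by omega)
      simpa using a2
    rw [h1, pow_one]
  obtain ⟨P, hP⟩ := key ⟨x, hx⟩ (by rw [orderOf_mk]; exact h.ord)
  obtain ⟨Q, hQ⟩ := key ⟨y, hy⟩ (by rw [orderOf_mk]; exact ho)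
  obtain ⟨g, hg⟩ := MulAction.exists_smul_eq H P Q
  have hmem : (⟨y, hy⟩ : H) ∈ ((g • P : Sylow 3 H) : Subgroup H) := by
    rw [hg, hQ]; exact mem_zpowers _
  rw [Sylow.coe_subgroup_smul, hP, mem_pointwise_smul_iff_inv_smul_mem] at hmem
  have hm : (g : G)⁻¹ * y * g ∈ zpowers x := by
    obtain ⟨k, hk⟩ := mem_zpowers_iff.1 hmem
    refine mem_zpowers_iff.2 ⟨k, ?_⟩
    have := congrArg Subtype.val hk
    simpa [MulAut.smul_def, MulAut.conj_apply, mul_assoc] using this
  have hy' : y = (g : G) * ((g : G)⁻¹ * y * g) * (g : G)⁻¹ := by group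
  refine ⟨g, g.2, ?_⟩
  rcases h.cases hm with e | e | e
  · rw [e, mul_one, mul_inv_cancel] at hy'
    rw [hy', orderOf_one] at ho
    omega
  · left; rw [hy', e]
  · right; rw [hy', e]

/-- The hypothesis is inherited by quotients of order prime to three. -/
theorem Hyp.quotient [Finite G] (h : Hyp x) (N : Subgroup G) [N.Normal] (hN : ¬ 3 ∣ Nat.card N) :
    Hyp (x : G ⧸ N) := by
  have hI : Inv x N := ⟨by rw [normalizer_eq_top]; exact mem_top x, hN⟩
  refine ⟨?_, ?_⟩
  · rw [orderOf_eq_prime_iff]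
    refine ⟨by rw [← QuotientGroup.mk_pow, h.pow_three, QuotientGroup.mk_one], fun e => ?_⟩
    exact hI.not_mem h ((QuotientGroup.eq_one_iff x).1 e)
  · intro g
    induction g using QuotientGroup.induction_on with
    | H g =>
      intro hg
      have hk : g * x * g⁻¹ * x⁻¹ ∈ N := by
        rw [← QuotientGroup.eq_one_iff]
        simp only [QuotientGroup.mk_mul, QuotientGroup.mk_inv]
        rw [hg.eq]; group
      obtain ⟨n, hn, e⟩ := hI.exists_conj h hk
      rw [inv_mul_cancel_right] at e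
      have hc : Commute (n⁻¹ * g) x := by
        show n⁻¹ * g * x = x * (n⁻¹ * g)
        calc n⁻¹ * g * x = n⁻¹ * (g * x * g⁻¹) * g := by group
          _ = x * (n⁻¹ * g) := by rw [← e]; group
      obtain ⟨k, hk⟩ := mem_zpowers_iff.1 (h.cent _ hc)
      refine mem_zpowers_iff.2 ⟨k, ?_⟩
      rw [← QuotientGroup.mk_zpow, hk, QuotientGroup.mk_mul, QuotientGroup.mk_inv,
        (QuotientGroup.eq_one_iff n).2 hn, inv_one, one_mul]

/-- The conclusion of the classification. -/
def Dich (G : Type*) [Group G] : Prop :=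
  (∃ (N : Subgroup G) (hN : N.Normal), Group.IsNilpotent N ∧ (Nat.card N).Coprime 3 ∧
      (Nat.card (G ⧸ N) = 3 ∨ Nonempty (G ⧸ N ≃* Equiv.Perm (Fin 3)))) ∨
  (∃ (N : Subgroup G) (hN : N.Normal), IsMulCommutative N ∧ (∀ n ∈ N, n ^ 2 = 1) ∧
      Nonempty (G ⧸ N ≃* alternatingGroup (Fin 5))) ∨
  Nonempty (G ≃* Matrix.ProjectiveSpecialLinearGroup (Fin 2) (ZMod 7))

end CfsgLib.Recognition.SelfCentThree
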