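import Cfsg.Agent.Lib.Recognition.SelfCentThree.Maximal
import Cfsg.Agent.Lib.Recognition.SelfCentThree.Chars

/-!
# The classes of maximal invariant subgroups in a simple group
-/

set_option autoImplicit false

namespace CfsgLib.Recognition.SelfCentThree

open Subgroup

variable {G : Type*} [Group G] {x u : G}

/-- The setting of the counting argument. -/
structure Setup (x u : G) : Prop where
  hyp : Hyp x
  loc : Local x
  sq : u * u = 1
  ne : u ≠ 1
  inv : u * x * u⁻¹ = x⁻¹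
  oneClass : ∀ s : G, s * s = 1 → s ≠ 1 → IsConj s u

/-- The normaliser is as small as possible. -/
def TypeX (K : Subgroup G) : Prop := Nat.card (normalizer (K : Set G)) = 3 * Nat.card K

theorem Setup.inv_u (hs : Setup x u) : u⁻¹ = u := inv_eq_of_mul_eq_one_right hs.sq

/-- The involutions in the centre of a subgroup. -/
def zTwo (K : Subgroup G) : Subgroup G where
  carrier := {z | z ∈ K ∧ z * z = 1 ∧ ∀ k ∈ K, Commute z k}
  one_mem' := ⟨one_mem K, one_mul 1, fun k _ => Commute.one_left k⟩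
  mul_mem' := fun {a b} ha hb => ⟨mul_mem ha.1 hb.1, by
    calc a * b * (a * b) = a * (b * a) * b := by group
      _ = a * (a * b) * b := by rw [(ha.2.2 b hb.1).eq]
      _ = a * a * (b * b) := by group
      _ = 1 := by rw [ha.2.1, hb.2.1, one_mul],
    fun k hk => (ha.2.2 k hk).mul_left (hb.2.2 k hk)⟩
  inv_mem' := fun {a} ha => ⟨inv_mem ha.1, by rw [← mul_inv_rev, ha.2.1, inv_one],
    fun k hk => (ha.2.2 k hk).inv_left⟩

theorem zTwo_le (K : Subgroup G) : zTwo K ≤ K := fun _ hz => hz.1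

theorem normalizer_le_zTwo (K : Subgroup G) :
    ∀ g ∈ normalizer (K : Set G), ∀ z ∈ zTwo K, g * z * g⁻¹ ∈ zTwo K := by
  intro g hg z hz
  refine ⟨(mem_normalizer_iff.1 hg z).1 hz.1, ?_, fun k hk => ?_⟩
  · rw [← pow_two, conj_pow, pow_two, hz.2.1, mul_one, mul_inv_cancel]
  · have hk' : g⁻¹ * k * g ∈ K := by simpa using (mem_normalizer_iff.1 (inv_mem hg) k).1 hk
    have e := (hz.2.2 _ hk').map (MulAut.conj g).toMonoidHom
    simp only [MulEquiv.coe_toMonoidHom, MulAut.conj_apply] at e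
    rwa [show g * (g⁻¹ * k * g) * g⁻¹ = k by group] at e

variable [Finite G]

theorem zTwo_ne_bot {K : Subgroup G} (hnil : Group.IsNilpotent K) (h2 : 2 ∣ Nat.card K) :
    zTwo K ≠ ⊥ := by
  haveI := hnil
  haveI : Fact (Nat.Prime 2) := ⟨Nat.prime_two⟩
  obtain ⟨P⟩ : Nonempty (Sylow 2 K) := inferInstance
  haveI : ((P : Subgroup K) ⊓ center K).Normal := inferInstance
  have hne : (P : Subgroup K) ⊓ center K ≠ ⊥ :=
    Solvable.FrattiniFitting.inf_center_ne_bot (P : Subgroup K) (P.ne_bot_of_dvd_card h2)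
  have hp : IsPGroup 2 ((P : Subgroup K) ⊓ center K : Subgroup K) := P.2.to_le inf_le_left
  haveI : Nontrivial ((P : Subgroup K) ⊓ center K : Subgroup K) := (nontrivial_iff_ne_bot _).2 hne
  obtain ⟨n, hn, hcard⟩ := hp.nontrivial_iff_card.1 inferInstance
  obtain ⟨⟨z, hz⟩, hzo⟩ := exists_prime_orderOf_dvd_card' (G := ((P : Subgroup K) ⊓ center K : Subgroup K)) 2
    (hcard ▸ dvd_pow_self 2 hn.ne')
  rw [orderOf_mk] at hzo
  intro e
  have hmem : (z : G) ∈ zTwo K := ⟨z.2, by
    have h1 := pow_orderOf_eq_one z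
    rw [hzo, pow_two] at h1
    exact congrArg Subtype.val h1,
    fun k hk => congrArg Subtype.val ((mem_center_iff.1 hz.2 ⟨k, hk⟩).symm)⟩
  rw [e, mem_bot] at hmem
  rw [show z = 1 from Subtype.ext hmem, orderOf_one] at hzo
  omega

variable [IsSimpleGroup G]

theorem Setup.invariant_conj (hs : Setup x u) {K : Subgroup G} (hK : IsMax x K) {g : G}
    (hg : x ∈ normalizer ((conjOf g K : Subgroup G) : Set G)) :
    conjOf g K = K ∨ conjOf g K = conjOf u K := by
  have hN := hK.inv.norm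
  rw [normalizer_conjOf, mem_conjOf] at hg
  have ho : orderOf (g⁻¹ * x * g) = 3 := by
    rw [← hs.hyp.ord]
    have := (MulAut.conj g⁻¹).orderOf_eq x
    simpa using this
  obtain ⟨n, hn, hcase⟩ := hs.hyp.conj_of_orderOf hN hg ho
  have hgn : conjOf g K = conjOf (g * n) K := by
    rw [← conjOf_conjOf, mem_normalizer_iff_conjOf.1 hn]
  rw [hgn]
  rcases hcase with e | e
  · left
    have hc : g * n ∈ zpowers x := hs.hyp.cent _ (by
      show g * n * x = x * (g * n)
      calc g * n * x = g * (n * x * n⁻¹) * n := by group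
        _ = x * (g * n) := by rw [← e]; group)
    exact mem_normalizer_iff_conjOf.1 (zpowers_le.2 hN hc)
  · right
    have hc : u * (g * n) ∈ zpowers x := hs.hyp.cent _ (by
      show u * (g * n) * x = x * (u * (g * n))
      have e2 : g * n * x * (g * n)⁻¹ = x⁻¹ := by
        calc g * n * x * (g * n)⁻¹ = g * (n * x⁻¹ * n⁻¹)⁻¹ * g⁻¹ := by group
          _ = x⁻¹ := by rw [← e]; group
      calc u * (g * n) * x = u * (g * n * x * (g * n)⁻¹) * u⁻¹ * (u * (g * n)) := by group
        _ = x * (u * (g * n)) := by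
          rw [e2, show u * x⁻¹ * u⁻¹ = (u * x * u⁻¹)⁻¹ by group, hs.inv, inv_inv])
    calc conjOf (g * n) K = conjOf u (conjOf (u * (g * n)) K) := by
          rw [conjOf_conjOf, ← mul_assoc, hs.sq, one_mul]
      _ = conjOf u K := by rw [mem_normalizer_iff_conjOf.1 (zpowers_le.2 hN hc)]

theorem Setup.conj_isMax (hs : Setup x u) {K : Subgroup G} (hK : IsMax x K) :
    IsMax x (conjOf u K) := by
  have key : ∀ L, Inv x L → Inv x (conjOf u L) := fun L hL => by
    refine ⟨?_, by rw [card_conjOf]; exact hL.cop⟩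
    rw [normalizer_conjOf, mem_conjOf, hs.inv_u]
    have : u * x * u = x⁻¹ := by conv_lhs => arg 2; rw [← hs.inv_u]
                                 exact hs.inv
    rw [this]
    exact inv_mem hL.norm
  refine ⟨key K hK.inv, fun e => hK.ne_bot (by rwa [map_eq_bot_iff_of_injective _
    (MulAut.conj u).injective] at e), fun L hL hle => ?_⟩
  have h1 : conjOf u L = K := hK.max _ (key L hL) (fun k hk => by
    rw [mem_conjOf]
    refine hle ?_
    rw [mem_conjOf, show u⁻¹ * (u⁻¹ * k * u) * u = (u * u)⁻¹ * k * (u * u) by group, hs.sq]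
    simpa using hk)
  rw [← h1, conjOf_conjOf, hs.sq, conjOf_one]

theorem Setup.not_typeX (hs : Setup x u) {K : Subgroup G} (hK : IsMax x K) (hX : ¬ TypeX K) :
    Nat.card (normalizer (K : Set G)) = 6 * Nat.card K ∧ u ∈ normalizer (K : Set G) := by
  obtain ⟨hc, hle⟩ := hK.card_normalizer hs.hyp hs.loc
  have h6 := hc.resolve_left hX
  refine ⟨h6, ?_⟩
  rcases (hs.hyp.subgroup hK.inv.norm).exists_invert with ⟨w, -, -, hw⟩ | ⟨M, hM, hM3, hMc⟩
  · have hw' : (w : G) * x * (w : G)⁻¹ = x⁻¹ := congrArg Subtype.val hw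
    have hc : u * (w : G) ∈ zpowers x := hs.hyp.cent _ (by
      show u * (w : G) * x = x * (u * w)
      calc u * (w : G) * x = u * ((w : G) * x * (w : G)⁻¹) * u⁻¹ * (u * w) := by group
        _ = x * (u * w) := by
          rw [hw', show u * x⁻¹ * u⁻¹ = (u * x * u⁻¹)⁻¹ by group, hs.inv, inv_inv])
    have := mul_mem (zpowers_le.2 hK.inv.norm hc) (inv_mem w.2)
    rwa [mul_inv_cancel_right] at this
  · exfalso
    haveI := hM
    have hI : Inv x (M.map (normalizer (K : Set G)).subtype) := by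
      refine ⟨le_normalizer_map _ (mem_map.2 ⟨⟨x, hK.inv.norm⟩, ?_, rfl⟩), ?_⟩
      · exact le_normalizer_of_normal (K := (⊤ : Subgroup _)) (mem_top _)
      · rwa [card_map_of_injective (normalizer (K : Set G)).subtype_injective]
    have := card_le_of_le (hle _ hI (map_subtype_le M))
    rw [card_map_of_injective (normalizer (K : Set G)).subtype_injective] at this
    have : 0 < Nat.card K := Nat.card_pos
    rw [h6] at hMc
    omega

omit [IsSimpleGroup G] in
theorem Setup.typeX_not_mem (hs : Setup x u) {K : Subgroup G} (hK : IsMax x K) (hX : TypeX K) :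
    u ∉ normalizer (K : Set G) := by
  intro hu
  have hidx : (K.subgroupOf (normalizer (K : Set G))).index = 3 := by
    have e := (K.subgroupOf (normalizer (K : Set G))).index_mul_card
    rw [Nat.card_congr (subgroupOfEquivOfLe (le_normalizer (H := K))).toEquiv, hX] at e
    exact Nat.eq_of_mul_eq_mul_right Nat.card_pos e
  have h3 := pow_index_mem (K.subgroupOf (normalizer (K : Set G))) ⟨u, hu⟩
  rw [hidx, mem_subgroupOf] at h3
  have huK : u ∈ K := by
    have e : ((⟨u, hu⟩ : normalizer (K : Set G)) ^ 3 : normalizer (K : Set G)) = (u : G) * u * u := by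
      simp [pow_succ]
    rw [show u = u * u * u by rw [hs.sq, one_mul], ← e]
    exact h3
  have hk : u * x * u⁻¹ * x⁻¹ ∈ K := by
    rw [show u * x * u⁻¹ * x⁻¹ = u * (x * u⁻¹ * x⁻¹) by group]
    exact mul_mem huK (hK.inv.conj_mem (inv_mem huK))
  rw [hs.inv] at hk
  refine hK.inv.not_mem hs.hyp ?_
  have e : x⁻¹ * x⁻¹ = x := by
    rw [hs.hyp.inv_eq, ← pow_add, show 2 + 2 = 3 + 1 by rfl, pow_succ, hs.hyp.pow_three, one_mul]
  rwa [e] at hk

/-- Two maximal subgroups sharing a prime. -/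
theorem Setup.share_prime (hs : Setup x u) {K K' : Subgroup G} (hK : IsMax x K) (hK' : IsMax x K')
    {p : ℕ} (hp : p.Prime) (h1 : p ∣ Nat.card K) (h2 : p ∣ Nat.card K')
    (hcase : p ≠ 2 ∨ (TypeX K ∧ TypeX K')) : K' = K ∨ K' = conjOf u K := by
  haveI : Fact p.Prime := ⟨hp⟩
  obtain ⟨D, -, -, hN, hS⟩ := hK.exists_part hs.hyp hs.loc h1
  obtain ⟨D', -, -, hN', hS'⟩ := hK'.exists_part hs.hyp hs.loc h2
  obtain ⟨P, hP⟩ := hS (hcase.imp id And.left)
  obtain ⟨P', hP'⟩ := hS' (hcase.imp id And.right)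
  obtain ⟨g, hg⟩ := MulAction.exists_smul_eq G P P'
  have hD : D' = conjOf g D := by rw [← hP', ← hP, ← hg, Sylow.coe_subgroup_smul]; rfl
  have hNeq : normalizer ((conjOf g K : Subgroup G) : Set G) = normalizer (K' : Set G) := by
    rw [normalizer_conjOf, ← hN, ← normalizer_conjOf, ← hD, hN']
  have hg' : x ∈ normalizer ((conjOf g K : Subgroup G) : Set G) := hNeq ▸ hK'.inv.norm
  rcases hs.invariant_conj hK hg' with e | e <;> rw [e] at hNeq hg'
  · left
    exact (hK.max K' hK'.inv ((hK'.card_normalizer hs.hyp hs.loc).2 K hK.inv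
      (le_normalizer.trans hNeq.le))).symm ▸ rfl
  · right
    exact (hs.conj_isMax hK).max K' hK'.inv ((hK'.card_normalizer hs.hyp hs.loc).2 _
      (hs.conj_isMax hK).inv (le_normalizer.trans hNeq.le))

theorem Setup.typeX_bound (hs : Setup x u) {K : Subgroup G} (hK : IsMax x K) (hX : TypeX K)
    (hodd : Odd (Nat.card K)) : 3 * (Nat.card K * (Nat.card K + 1)) ≤ Nat.card G := by
  have hu := hs.typeX_not_mem hK hX
  set K' := conjOf u K with hK'def
  have hK' : IsMax x K' := hs.conj_isMax hK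
  have hne : K' ≠ K := fun e => hu (mem_normalizer_iff_conjOf.2 e)
  -- the intersection is trivial
  have hD : K ⊓ K' = ⊥ := by
    by_contra hD1
    set D := K ⊓ K'
    have hDI : Inv x D := hK.inv.mono_cop inf_le_left (by
      rw [mem_normalizer_iff]
      intro a
      exact and_congr (mem_normalizer_iff.1 hK.inv.norm a) (mem_normalizer_iff.1 hK'.inv.norm a))
    have h2 : ¬ IsPGroup 2 D := fun h2 => hD1 (by
      rw [← card_eq_one]
      obtain ⟨n, hn⟩ := IsPGroup.iff_card.1 h2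
      rcases n with _ | n
      · simpa using hn
      · exfalso
        have hd : 2 ∣ Nat.card K := (hn ▸ dvd_pow_self 2 n.succ_ne_zero : 2 ∣ Nat.card D).trans
          (card_dvd_of_le inf_le_left)
        exact (Nat.not_even_iff_odd.2 hodd) (even_iff_two_dvd.2 hd))
    rcases localShape hs.hyp hs.loc hDI hD1 with ⟨O, hO, -, -, hOL, -⟩ | ⟨E, hE, hDE, -⟩
    · have hDO : D ≤ O := hOL D hDI le_normalizer
      obtain ⟨K3, hK3, hOK3⟩ := exists_max hO (fun e => hD1 (le_bot_iff.1 (e ▸ hDO)))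
      obtain ⟨p, hp, hpd⟩ := Nat.exists_prime_and_dvd (n := Nat.card D) (fun e => hD1 (card_eq_one.1 e))
      have hpK : p ∣ Nat.card K := hpd.trans (card_dvd_of_le inf_le_left)
      have hp2 : p ≠ 2 := fun e => Nat.not_even_iff_odd.2 hodd (even_iff_two_dvd.2 (e ▸ hpK))
      have hpK3 : p ∣ Nat.card K3 := hpd.trans (card_dvd_of_le (hDO.trans hOK3))
      -- the normalisers of `D` in `K` and `K'` land in one of the two
      have key : ∀ A B : Subgroup G, IsMax x A → IsMax x B → D ≤ B → D = A ⊓ B → O ≤ A → B = A := by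
        intro A B hA hB hDB hDAB hOA
        haveI := hB.inv.nilpotent hs.hyp
        by_contra hBA
        have hlt : D.subgroupOf B < ⊤ := by
          rw [lt_top_iff_ne_top, ne_eq, subgroupOf_eq_top]
          intro hle
          exact hBA (hB.max A hA.inv (hle.trans (hDAB ▸ inf_le_left))).symm
        have hn := Group.normalizerCondition_of_isNilpotent _ hlt
        obtain ⟨⟨b, hb⟩, hbn, hbD⟩ := SetLike.exists_of_lt hn
        rw [mem_subgroupOf] at hbD
        have hbN : b ∈ normalizer (D : Set G) := by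
          rw [mem_normalizer_iff]
          intro a
          constructor
          · intro ha
            exact (mem_normalizer_iff.1 hbn ⟨a, hDB ha⟩).1 (mem_subgroupOf.2 ha)
          · intro ha
            have haB : a ∈ B := by
              have := mul_mem (mul_mem (inv_mem hb) (hDB ha)) hb
              rwa [show b⁻¹ * (b * a * b⁻¹) * b = a by group] at this
            exact mem_subgroupOf.1 ((mem_normalizer_iff.1 hbn ⟨a, haB⟩).2 (mem_subgroupOf.2 ha))
        have hI : Inv x (B ⊓ normalizer (D : Set G)) := hB.inv.mono_cop inf_le_left (by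
          rw [mem_normalizer_iff]
          intro a
          refine and_congr (mem_normalizer_iff.1 hB.inv.norm a) ?_
          have hx : x ∈ normalizer (D : Set G) := hDI.norm
          exact ⟨fun ha => (normalizer (D : Set G)).mul_mem ((normalizer (D : Set G)).mul_mem hx ha)
              ((normalizer (D : Set G)).inv_mem hx), fun ha => by
            have := (normalizer (D : Set G)).mul_mem ((normalizer (D : Set G)).mul_mem
              ((normalizer (D : Set G)).inv_mem hx) ha) hx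
            rwa [show x⁻¹ * (x * a * x⁻¹) * x = a by group] at this⟩)
        exact hbD (hDAB ▸ ⟨hOA (hOL _ hI inf_le_right ⟨hb, hbN⟩), hb⟩ : b ∈ D)
      rcases hs.share_prime hK hK3 hp hpK hpK3 (Or.inl hp2) with e | e <;> rw [e] at hOK3
      · exact hne (key K K' hK hK' inf_le_right rfl hOK3)
      · exact hne (key K' K hK' hK inf_le_left (inf_comm _ _) hOK3).symm
    · exact h2 (hE.to_le hDE)
  have hmap : Function.Injective (fun t : (K × normalizer (K : Set G)) ⊕ normalizer (K : Set G) =>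
      Sum.elim (fun q : K × normalizer (K : Set G) => (q.1 : G) * u * (q.2 : G))
        (fun n : normalizer (K : Set G) => (n : G)) t) := by
    rintro (⟨⟨k, hk⟩, ⟨n, hn⟩⟩ | ⟨n, hn⟩) (⟨⟨k', hk'⟩, ⟨n', hn'⟩⟩ | ⟨n', hn'⟩) e <;>
      simp only [Sum.elim_inl, Sum.elim_inr] at e
    · have h1 : u⁻¹ * (k'⁻¹ * k) * u ∈ normalizer (K : Set G) := by
        have : u⁻¹ * (k'⁻¹ * k) * u = n' * n⁻¹ := by
          calc u⁻¹ * (k'⁻¹ * k) * u = u⁻¹ * k'⁻¹ * (k * u * n) * n⁻¹ := by group
            _ = n' * n⁻¹ := by rw [e]; group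
        rw [this]; exact mul_mem hn' (inv_mem hn)
      have h2 : u⁻¹ * (k'⁻¹ * k) * u ∈ K' := by
        rw [hK'def, mem_conjOf]
        rw [show u⁻¹ * (u⁻¹ * (k'⁻¹ * k) * u) * u = (u * u)⁻¹ * (k'⁻¹ * k) * (u * u) by group, hs.sq,
          inv_one, one_mul, mul_one]
        exact mul_mem (inv_mem hk') hk
      have hI : Inv x (K' ⊓ normalizer (K : Set G)) := hK'.inv.mono_cop inf_le_left (by
        rw [mem_normalizer_iff]
        intro a
        refine and_congr (mem_normalizer_iff.1 hK'.inv.norm a) ?_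
        have hx := hK.inv.norm
        exact ⟨fun ha => (normalizer (K : Set G)).mul_mem ((normalizer (K : Set G)).mul_mem hx ha)
            ((normalizer (K : Set G)).inv_mem hx), fun ha => by
          have := (normalizer (K : Set G)).mul_mem ((normalizer (K : Set G)).mul_mem
            ((normalizer (K : Set G)).inv_mem hx) ha) hx
          rwa [show x⁻¹ * (x * a * x⁻¹) * x = a by group] at this⟩)
      have h3 : u⁻¹ * (k'⁻¹ * k) * u ∈ K ⊓ K' :=
        ⟨(hK.card_normalizer hs.hyp hs.loc).2 _ hI inf_le_right ⟨h2, h1⟩, h2⟩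
      rw [hD, mem_bot] at h3
      have hkk : k' = k := inv_mul_eq_one.1 (by
        calc k'⁻¹ * k = u * (u⁻¹ * (k'⁻¹ * k) * u) * u⁻¹ := by group
          _ = 1 := by rw [h3]; group)
      subst hkk
      have hnn : n = n' := mul_left_cancel e
      subst hnn
      rfl
    · exfalso; apply hu
      have := mul_mem (mul_mem (inv_mem (le_normalizer hk)) hn') (inv_mem hn)
      rwa [← e, show k⁻¹ * (k * u * n) * n⁻¹ = u by group] at this
    · exfalso; apply hu
      have := mul_mem (mul_mem (inv_mem (le_normalizer hk')) hn) (inv_mem hn')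
      rwa [e, show k'⁻¹ * (k' * u * n') * n'⁻¹ = u by group] at this
    · subst e; rfl
  have := Nat.card_le_card_of_injective _ hmap
  rw [Nat.card_sum, Nat.card_prod, hX] at this
  calc 3 * (Nat.card K * (Nat.card K + 1)) = Nat.card K * (3 * Nat.card K) + 3 * Nat.card K := by ring
    _ ≤ Nat.card G := this

theorem Setup.inverted_square (hs : Setup x u) {K : Subgroup G} (hK : IsMax x K) (hX : ¬ TypeX K)
    (hodd : Odd (Nat.card K)) :
    ∃ r, Nat.card K = r * r ∧ r ∣ Nat.card (centralizer ({u} : Set G)) := by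
  have hu : u ∈ normalizer (K : Set G) := (hs.not_typeX hK hX).2
  have hui := hs.inv_u
  set C := K ⊓ centralizer ({u} : Set G)
  refine ⟨Nat.card C, ?_, card_dvd_of_le inf_le_right⟩
  -- elements inverted by `u`, and by the conjugate of `u`
  let I := {k : G // k ∈ K ∧ u * k * u⁻¹ = k⁻¹}
  let v := x * u * x⁻¹
  have hvN : v ∈ normalizer (K : Set G) := mul_mem (mul_mem hK.inv.norm hu) (inv_mem hK.inv.norm)
  have hconju : ∀ k ∈ K, u * k * u⁻¹ ∈ K := fun k hk => (mem_normalizer_iff.1 hu k).1 hk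
  obtain ⟨j, hj⟩ := hodd
  have hsqrt : ∀ k ∈ K, (k ^ (j + 1)) * (k ^ (j + 1)) = k := fun k hk => by
    rw [← pow_add, show j + 1 + (j + 1) = (2 * j + 1) + 1 by ring, ← hj, pow_succ]
    have : (⟨k, hk⟩ : K) ^ Nat.card K = 1 := pow_card_eq_one'
    have e : k ^ Nat.card K = 1 := congrArg Subtype.val this
    rw [e, one_mul]
  -- `|K| = |C| |I|`
  have h1 : Nat.card K = Nat.card C * Nat.card I := by
    have hF : ∀ q : C × I, ((q.2 : G) * (q.1 : G)) ∈ K := fun q => mul_mem q.2.2.1 q.1.2.1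
    rw [← Nat.card_prod]
    refine (Nat.card_congr (Equiv.ofBijective (fun q => (⟨_, hF q⟩ : K)) ⟨?_, ?_⟩)).symm
    · rintro ⟨⟨c, hc⟩, ⟨i, hi⟩⟩ ⟨⟨c', hc'⟩, ⟨i', hi'⟩⟩ e
      have e : i * c = i' * c' := congrArg Subtype.val e
      have hcu : ∀ z : G, z ∈ centralizer ({u} : Set G) → u * z * u⁻¹ = z := fun z hz =>
        mul_inv_eq_iff_eq_mul.2 (mem_centralizer_singleton_iff.1 hz).symm
      have e2 : i⁻¹ * c = i'⁻¹ * c' := by
        have h : u * (i * c) * u⁻¹ = u * (i' * c') * u⁻¹ := congrArg (fun z => u * z * u⁻¹) e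
        rw [show u * (i * c) * u⁻¹ = u * i * u⁻¹ * (u * c * u⁻¹) by group,
          show u * (i' * c') * u⁻¹ = u * i' * u⁻¹ * (u * c' * u⁻¹) by group, hi.2, hi'.2,
          hcu c hc.2, hcu c' hc'.2] at h
        exact h
      have e3 : i * i = i' * i' := by
        calc i * i = (i * c) * (i⁻¹ * c)⁻¹ := by group
          _ = i' * i' := by rw [e, e2]; group
      have e4 : i = i' := by
        have hp : ∀ z ∈ K, (z * z) ^ (j + 1) = z := fun z hz => by
          rw [← pow_two, ← pow_mul, show 2 * (j + 1) = (j + 1) + (j + 1) by ring, pow_add, hsqrt z hz]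
        rw [← hp i hi.1, e3, hp i' hi'.1]
      subst e4
      have e5 : c = c' := mul_left_cancel e
      subst e5
      rfl
    · rintro ⟨k, hk⟩
      set m := k * (u * k * u⁻¹)⁻¹ with hm
      have hmK : m ∈ K := mul_mem hk (inv_mem (hconju k hk))
      have hmi : u * m * u⁻¹ = m⁻¹ := by
        rw [hm]
        calc u * (k * (u * k * u⁻¹)⁻¹) * u⁻¹ = u * k * u⁻¹ * ((u * u) * k⁻¹ * (u * u)⁻¹) := by group
          _ = (k * (u * k * u⁻¹)⁻¹)⁻¹ := by rw [hs.sq]; group
      set i := m ^ (j + 1)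
      have hiK : i ∈ K := pow_mem hmK _
      have hii : u * i * u⁻¹ = i⁻¹ := by rw [← conj_pow, hmi, inv_pow]
      have hc : i⁻¹ * k ∈ C := by
        refine ⟨K.mul_mem (K.inv_mem hiK) hk, mem_centralizer_singleton_iff.2 (mul_inv_eq_iff_eq_mul.1 ?_).symm⟩
        calc u * (i⁻¹ * k) * u⁻¹ = (u * i * u⁻¹)⁻¹ * (u * k * u⁻¹) := by group
          _ = i * (m⁻¹ * k) := by rw [hii, hm]; group
          _ = i * ((i * i)⁻¹ * k) := by rw [show i * i = m from hsqrt m hmK]
          _ = i⁻¹ * k := by group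
      exact ⟨(⟨_, hc⟩, ⟨i, hiK, hii⟩), Subtype.ext (mul_inv_cancel_left i k)⟩
  -- `|K| = |I|²`
  have h2 : Nat.card K = Nat.card I * Nat.card I := by
    have hinvol : ∀ q : I × I, ((q.1 : G) * u) * (x * ((q.2 : G) * u) * x⁻¹) * x⁻¹ ∈ K := by
      rintro ⟨⟨a, ha, -⟩, ⟨b, hb, -⟩⟩
      have e : a * u * (x * (b * u) * x⁻¹) * x⁻¹ =
          a * ((u * x) * b * (u * x)⁻¹) * (u * x * u * x⁻¹ * x⁻¹) := by group
      have e2 : u * x * u * x⁻¹ * x⁻¹ = 1 := by
        conv_lhs => arg 1; arg 1; arg 2; rw [← hui]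
        rw [hs.inv, ← mul_inv_rev, ← mul_inv_rev, inv_eq_one, ← mul_assoc, ← pow_three', hs.hyp.pow_three]
      show a * u * (x * (b * u) * x⁻¹) * x⁻¹ ∈ K
      rw [e, e2, mul_one]
      exact mul_mem ha ((mem_normalizer_iff.1 (mul_mem hu hK.inv.norm) b).1 hb)
    rw [← Nat.card_prod]
    refine (Nat.card_congr (Equiv.ofBijective (fun q => (⟨_, hinvol q⟩ : K)) ⟨?_, ?_⟩)).symm
    · rintro ⟨⟨a, ha⟩, ⟨b, hb⟩⟩ ⟨⟨a', ha'⟩, ⟨b', hb'⟩⟩ e
      have e : a * u * (x * (b * u) * x⁻¹) * x⁻¹ = a' * u * (x * (b' * u) * x⁻¹) * x⁻¹ :=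
        congrArg Subtype.val e
      have e1 : a * u * (x * (b * u) * x⁻¹) = a' * u * (x * (b' * u) * x⁻¹) := mul_right_cancel e
      have hsq : ∀ z : G, u * z * u⁻¹ = z⁻¹ → z * u * (z * u) = 1 := fun z hz => by
        rw [show z * u * (z * u) = z * (u * z * u) by group]
        conv_lhs => arg 2; arg 2; rw [← hui]
        rw [hz, mul_inv_cancel]
      set y := a * u * (x * (b * u) * x⁻¹) with hy
      have hinv1 : ∀ s t : G, s * s = 1 → t * t = 1 → s * (s * t) * s⁻¹ = (s * t)⁻¹ := fun s t h1 h2 => by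
        rw [mul_inv_rev, inv_eq_of_mul_eq_one_right h2, ← mul_assoc, h1, one_mul,
          inv_eq_of_mul_eq_one_right h1]
      have hxsq : ∀ z : G, z * z = 1 → x * z * x⁻¹ * (x * z * x⁻¹) = 1 := fun z hz => by
        rw [← pow_two, conj_pow, pow_two, hz, mul_one, mul_inv_cancel]
      have i1 : a * u * y * (a * u)⁻¹ = y⁻¹ := hinv1 _ _ (hsq a ha.2) (hxsq _ (hsq b hb.2))
      have i2 : a' * u * y * (a' * u)⁻¹ = y⁻¹ := by
        rw [e1]; exact hinv1 _ _ (hsq a' ha'.2) (hxsq _ (hsq b' hb'.2))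
      have hyK : y * x⁻¹ ∈ K := hinvol (⟨a, ha⟩, ⟨b, hb⟩)
      obtain ⟨k, hk, hky⟩ := hK.inv.exists_conj hs.hyp hyK
      rw [inv_mul_cancel_right] at hky
      have hcomm : Commute (a' * a⁻¹) y⁻¹ := by
        have j1 : u * y * u⁻¹ = a⁻¹ * y⁻¹ * a := by rw [← i1]; group
        have j2 : u * y * u⁻¹ = a'⁻¹ * y⁻¹ * a' := by rw [← i2]; group
        show a' * a⁻¹ * y⁻¹ = y⁻¹ * (a' * a⁻¹)
        calc a' * a⁻¹ * y⁻¹ = a' * (a⁻¹ * y⁻¹ * a) * a⁻¹ := by group
          _ = a' * (a'⁻¹ * y⁻¹ * a') * a⁻¹ := by rw [← j1, j2]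
          _ = y⁻¹ * (a' * a⁻¹) := by group
      have hz : k⁻¹ * (a' * a⁻¹) * k = 1 := by
        refine hK.inv.fixed hs.hyp (mul_mem (mul_mem (inv_mem hk) (mul_mem ha'.1 (inv_mem ha.1))) hk) ?_
        have e3 := (hcomm.inv_right).map (MulAut.conj k⁻¹).toMonoidHom
        simp only [MulEquiv.coe_toMonoidHom, MulAut.conj_apply, inv_inv] at e3
        rwa [show k⁻¹ * y * k = x by rw [← hky]; group] at e3
      have haa : a' = a := mul_inv_eq_one.1 (by
        calc a' * a⁻¹ = k * (k⁻¹ * (a' * a⁻¹) * k) * k⁻¹ := by group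
          _ = 1 := by rw [hz]; group)
      subst haa
      have hbb : b = b' := mul_right_cancel (mul_left_cancel (mul_right_cancel (mul_left_cancel e1)))
      subst hbb
      rfl
    · rintro ⟨w, hw⟩
      obtain ⟨k, hk, hkw⟩ := hK.inv.exists_conj hs.hyp hw
      have hIof : ∀ k ∈ K, k * (u * k * u⁻¹)⁻¹ ∈ K ∧
          u * (k * (u * k * u⁻¹)⁻¹) * u⁻¹ = (k * (u * k * u⁻¹)⁻¹)⁻¹ := fun k hk => by
        refine ⟨mul_mem hk (inv_mem (hconju k hk)), ?_⟩
        calc u * (k * (u * k * u⁻¹)⁻¹) * u⁻¹ = u * k * u⁻¹ * ((u * u) * k⁻¹ * (u * u)⁻¹) := by group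
          _ = (k * (u * k * u⁻¹)⁻¹)⁻¹ := by rw [hs.sq]; group
      have hk' : x⁻¹ * k * x ∈ K := by simpa using (mem_normalizer_iff.1 (inv_mem hK.inv.norm) k).1 hk
      refine ⟨(⟨_, hIof k hk⟩, ⟨_, hIof _ hk'⟩), Subtype.ext ?_⟩
      show k * (u * k * u⁻¹)⁻¹ * u *
        (x * (x⁻¹ * k * x * (u * (x⁻¹ * k * x) * u⁻¹)⁻¹ * u) * x⁻¹) * x⁻¹ = w
      have e : w = k * (u * (x * u * x⁻¹)) * k⁻¹ * x⁻¹ := by
        have hux : u * x * u * x⁻¹ = x := by
          conv_lhs => arg 1; arg 2; rw [← hui]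
          rw [hs.inv, ← pow_two, inv_pow, ← hs.hyp.inv_eq, inv_inv]
        rw [show u * (x * u * x⁻¹) = x by rw [← mul_assoc, ← mul_assoc]; exact hux, hkw, mul_inv_cancel_right]
      rw [e]
      group
  have hne : 0 < Nat.card I := Nat.pos_of_ne_zero fun e => by
    rw [e, mul_zero] at h2; exact Nat.card_pos.ne' h2
  have : Nat.card C = Nat.card I := Nat.eq_of_mul_eq_mul_right hne (h1.symm.trans h2)
  rw [h1, this]

theorem Setup.zTwo_bound (hs : Setup x u) {K : Subgroup G} (hK : IsMax x K) (h2 : 2 ∣ Nat.card K) :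
    Nat.card K ≤ Nat.card (centralizer ({u} : Set G)) ∧
    (¬ TypeX K → 2 * Nat.card K ≤ Nat.card (centralizer ({u} : Set G))) ∧
    4 ≤ Nat.card (zTwo K) ∧ (∀ z ∈ zTwo K, z ≠ 1 → z ∈ invSet x) := by
  have hne := zTwo_ne_bot (hK.inv.nilpotent hs.hyp) h2
  have hI : Inv x (zTwo K) := hK.inv.mono_cop (zTwo_le K) (by
    rw [mem_normalizer_iff]
    intro a
    refine ⟨normalizer_le_zTwo K x hK.inv.norm a, fun ha => ?_⟩
    have := normalizer_le_zTwo K x⁻¹ (inv_mem hK.inv.norm) _ ha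
    rwa [show x⁻¹ * (x * a * x⁻¹) * x⁻¹⁻¹ = a by group] at this)
  have hcz : ∀ z ∈ zTwo K, z ≠ 1 →
      Nat.card (centralizer ({z} : Set G)) = Nat.card (centralizer ({u} : Set G)) := fun z hz hz1 => by
    obtain ⟨g, hg⟩ := isConj_iff.1 (hs.oneClass z hz.2.1 hz1)
    rw [← hg, centralizer_conj_card]
  have hKz : ∀ z ∈ zTwo K, K ≤ centralizer ({z} : Set G) := fun z hz k hk =>
    mem_centralizer_singleton_iff.2 (hz.2.2 k hk).symm.eq
  obtain ⟨z, hz, hz1⟩ := (bot_or_exists_ne_one _).resolve_left hne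
  refine ⟨hcz z hz hz1 ▸ card_le_of_le (hKz z hz), fun hX => ?_, ?_, fun a ha ha1 => ⟨ha.2.1, ha1, ?_⟩⟩
  · have hu := (hs.not_typeX hK hX).2
    have hconj : u * z * u⁻¹ ∈ zTwo K := normalizer_le_zTwo K u hu z hz
    obtain ⟨w, hw, hw1, hwc⟩ : ∃ w, w ∈ zTwo K ∧ w ≠ 1 ∧ u * w * u⁻¹ = w := by
      by_cases e : u * z * u⁻¹ = z
      · exact ⟨z, hz, hz1, e⟩
      · refine ⟨z * (u * z * u⁻¹), mul_mem hz hconj, fun e1 => e ?_, ?_⟩
        · calc u * z * u⁻¹ = z⁻¹ * (z * (u * z * u⁻¹)) := by group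
            _ = z := by rw [e1, mul_one, inv_eq_of_mul_eq_one_right hz.2.1]
        · calc u * (z * (u * z * u⁻¹)) * u⁻¹ = u * z * u⁻¹ * ((u * u) * z * (u * u)⁻¹) := by group
            _ = u * z * u⁻¹ * z := by rw [hs.sq]; group
            _ = z * (u * z * u⁻¹) := (hz.2.2 _ hconj.1).symm.eq
    rw [← hcz w hw hw1]
    have huC : u ∈ centralizer ({w} : Set G) :=
      mem_centralizer_singleton_iff.2 (mul_inv_eq_iff_eq_mul.1 hwc)
    have huK : u ∉ K := fun huK => by
      have hk : u * x * u⁻¹ * x⁻¹ ∈ K := by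
        rw [show u * x * u⁻¹ * x⁻¹ = u * (x * u⁻¹ * x⁻¹) by group]
        exact mul_mem huK (hK.inv.conj_mem (inv_mem huK))
      rw [hs.inv, hs.hyp.inv_eq, ← pow_add, show 2 + 2 = 3 + 1 by rfl, pow_succ, hs.hyp.pow_three,
        one_mul] at hk
      exact hK.inv.not_mem hs.hyp hk
    have hmap : Function.Injective (fun t : K ⊕ K =>
        (Sum.elim (fun k : K => (⟨k, hKz w hw k.2⟩ : centralizer ({w} : Set G)))
          (fun k : K => ⟨u * k, mul_mem huC (hKz w hw k.2)⟩) t)) := by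
      rintro (⟨a, ha⟩ | ⟨a, ha⟩) (⟨b, hb⟩ | ⟨b, hb⟩) e <;>
        have e := congrArg Subtype.val e <;> simp only [Sum.elim_inl, Sum.elim_inr] at e
      · subst e; rfl
      · exact absurd (by have := mul_mem ha (inv_mem hb); rwa [e, mul_inv_cancel_right] at this) huK
      · exact absurd (by have := mul_mem hb (inv_mem ha); rwa [← e, mul_inv_cancel_right] at this) huK
      · have := mul_left_cancel e; subst this; rfl
    have := Nat.card_le_card_of_injective _ hmap
    rw [Nat.card_sum] at this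
    omega
  · have h1 := hI.card_mod hs.hyp
    have : 1 < Nat.card (zTwo K) := Finite.one_lt_card_iff_nontrivial.2 ((nontrivial_iff_ne_bot _).2 hne)
    omega
  · set b := x * a * x⁻¹ with hb
    set c := x * b * x⁻¹ with hc
    have hbz : b ∈ zTwo K := normalizer_le_zTwo K x hK.inv.norm a ha
    have hcz : c ∈ zTwo K := normalizer_le_zTwo K x hK.inv.norm b hbz
    have e3 : (a * x) ^ 3 = a * b * c := by
      have : (a * x) ^ 3 = a * b * c * x ^ 3 := by rw [hc, hb]; simp [pow_succ, mul_assoc]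
      rw [this, hs.hyp.pow_three, mul_one]
    rw [e3]
    refine hK.inv.fixed hs.hyp (mul_mem (mul_mem ha.1 hbz.1) hcz.1) ?_
    refine (mul_inv_eq_iff_eq_mul.1 ?_).symm
    have hxc : x * c * x⁻¹ = a := by
      have : x * c * x⁻¹ = x ^ 3 * a * (x ^ 3)⁻¹ := by rw [hc, hb]; simp [pow_succ, mul_assoc]
      rw [this, hs.hyp.pow_three, one_mul, inv_one, mul_one]
    calc x * (a * b * c) * x⁻¹ = b * c * (x * c * x⁻¹) := by rw [hc, hb]; group
      _ = a * b * c := by
        rw [hxc, ((ha.2.2 b hbz.1).mul_right (ha.2.2 c hcz.1)).eq.symm, ← mul_assoc]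

/-- Centres of distinct maximal subgroups share no involution. -/
theorem Setup.zTwo_disjoint (hs : Setup x u) {K K' : Subgroup G} (hK : IsMax x K) (hK' : IsMax x K')
    (hne : K ≠ K') : zTwo K ⊓ zTwo K' = ⊥ := by
  by_contra hD
  have hI : Inv x (zTwo K ⊓ zTwo K') := hK.inv.mono_cop (inf_le_left.trans (zTwo_le K)) (by
    have hh : ∀ g : G, g ∈ normalizer (K : Set G) → g ∈ normalizer (K' : Set G) →
        ∀ a ∈ zTwo K ⊓ zTwo K', g * a * g⁻¹ ∈ zTwo K ⊓ zTwo K' := fun g h1 h2 a ha =>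
      ⟨normalizer_le_zTwo K g h1 a ha.1, normalizer_le_zTwo K' g h2 a ha.2⟩
    rw [mem_normalizer_iff]
    intro a
    refine ⟨hh x hK.inv.norm hK'.inv.norm a, fun ha => ?_⟩
    have := hh x⁻¹ (inv_mem hK.inv.norm) (inv_mem hK'.inv.norm) _ ha
    rwa [show x⁻¹ * (x * a * x⁻¹) * x⁻¹⁻¹ = a by group] at this)
  have hC := mem_of_orderOf_three_centralizes hs.hyp hI hD
  have e1 := hK.max _ hC (fun k hk => mem_centralizer_iff.2 fun a ha => (ha.1.2.2 k hk).eq)
  have e2 := hK'.max _ hC (fun k hk => mem_centralizer_iff.2 fun a ha => (ha.2.2.2 k hk).eq)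
  exact hne (e1.symm.trans e2)

/-- Every nontrivial element giving a pair lies in a maximal invariant subgroup. -/
theorem Setup.pair_mem (hs : Setup x u) {a : G} (ha : a ∈ pairSet x) (ha1 : a ≠ 1) :
    ∃ K, IsMax x K ∧ a ∈ K := by
  obtain ⟨hax, hax', h3, h4⟩ := ha
  set b := x * a * x⁻¹ with hb
  set c := x * b * x⁻¹ with hc
  have hxc : x * c * x⁻¹ = a := by
    have : x * c * x⁻¹ = x ^ 3 * a * (x ^ 3)⁻¹ := by rw [hc, hb]; simp [pow_succ, mul_assoc]
    rw [this, hs.hyp.pow_three, one_mul, inv_one, mul_one]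
  have hxi : x⁻¹ * a * x = c := by rw [← hxc]; group
  have e1 : a * c * b = 1 := by
    rw [← h3]
    have : (a * x⁻¹) ^ 3 = a * (x⁻¹ * a * x) * (x⁻¹ * x⁻¹ * a * x * x) * (x ^ 3)⁻¹ := by
      simp [pow_succ, mul_assoc]
    rw [this, hs.hyp.pow_three, inv_one, mul_one, hxi]
    congr 1
    have h5 : x⁻¹ * x⁻¹ * a * x * x = x⁻¹ * (x⁻¹ * a * x) * x := by group
    rw [h5, hxi, hc]; group
  have e2 : b * c * a = 1 := by
    have h5 : (a⁻¹ * (x * x)) ^ 3 = 1 := by
      have : (a⁻¹ * (x * x)) ^ 3 = x⁻¹ * (x * a⁻¹ * x) ^ 3 * x := by simp [pow_succ, mul_assoc]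
      rw [this, h4, mul_one, inv_mul_cancel]
    have h6 : (a⁻¹ * (x * x)) ^ 3 = a⁻¹ * (x * x * a⁻¹ * (x * x)⁻¹) * (x * a⁻¹ * x⁻¹) := by
      have hx : x * x * (x * x) = x := by
        rw [show x * x * (x * x) = x ^ 3 * x by simp [pow_succ, mul_assoc], hs.hyp.pow_three, one_mul]
      have : (a⁻¹ * (x * x)) ^ 3 = a⁻¹ * (x * x * a⁻¹ * (x * x)⁻¹) *
          ((x * x * (x * x)) * a⁻¹ * (x * x * (x * x))⁻¹) * (x ^ 3) ^ 2 := by simp [pow_succ, mul_assoc]
      rw [this, hx, hs.hyp.pow_three, one_pow, mul_one]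
    rw [h6] at h5
    have h7 : x * x * a⁻¹ * (x * x)⁻¹ = c⁻¹ := by rw [hc, hb]; simp [mul_assoc]
    have h8 : x * a⁻¹ * x⁻¹ = b⁻¹ := by rw [hb]; group
    rw [h7, h8] at h5
    have h9 : (b * c * a)⁻¹ = 1 := by rw [← h5]; group
    exact inv_eq_one.1 h9
  have hcb : Commute c b := by
    have h5 : a⁻¹ = c * b := inv_eq_of_mul_eq_one_right (by rw [← mul_assoc]; exact e1)
    have h6 : a⁻¹ = b * c := inv_eq_of_mul_eq_one_left e2
    exact h5.symm.trans h6
  have hab : Commute a b := by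
    have h5 : a = (c * b)⁻¹ := by rw [eq_inv_iff_mul_eq_one, ← mul_assoc]; exact e1
    rw [h5]; exact (hcb.mul_left (Commute.refl b)).inv_left
  have hac : Commute a c := by
    have h5 : a = (c * b)⁻¹ := by rw [eq_inv_iff_mul_eq_one, ← mul_assoc]; exact e1
    rw [h5]; exact ((Commute.refl c).mul_left hcb.symm).inv_left
  set L := closure ({a, b, c} : Set G) with hL
  have haL : a ∈ L := subset_closure (by simp)
  have hbL : b ∈ L := subset_closure (by simp)
  have hcL : c ∈ L := subset_closure (by simp)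
  have hLn : x ∈ normalizer (L : Set G) := by
    rw [mem_normalizer_iff_conjOf]
    apply le_antisymm
    · rw [conjOf, hL, MonoidHom.map_closure, closure_le]
      rintro _ ⟨w, hw, rfl⟩
      rcases hw with rfl | rfl | rfl
      · exact hbL
      · show x * b * x⁻¹ ∈ L; rw [← hc]; exact hcL
      · show x * c * x⁻¹ ∈ L; rw [hxc]; exact haL
    · rw [hL, closure_le]
      rintro w (rfl | rfl | rfl) <;> rw [SetLike.mem_coe, mem_conjOf]
      · rw [hxi]; exact hcL
      · rw [hb, show x⁻¹ * (x * a * x⁻¹) * x = a by group]; exact haL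
      · rw [hc, show x⁻¹ * (x * b * x⁻¹) * x = b by group]; exact hbL
  have hcomm : ∀ v ∈ L, ∀ w ∈ L, Commute v w := by
    have hg : ∀ v ∈ ({a, b, c} : Set G), ∀ w ∈ ({a, b, c} : Set G), Commute v w := by
      rintro v (rfl | rfl | rfl) w (rfl | rfl | rfl) <;>
        first
          | exact Commute.refl _
          | exact hab
          | exact hac
          | exact hab.symm
          | exact hac.symm
          | exact hcb
          | exact hcb.symm
    intro v hv w hw
    have h1 : ∀ g ∈ ({a, b, c} : Set G), L ≤ centralizer ({g} : Set G) := fun g hgm => by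
      rw [hL, closure_le]
      intro w' hw'
      exact mem_centralizer_singleton_iff.2 (hg w' hw' g hgm).eq
    have h2 : L ≤ centralizer (L : Set G) := by
      conv_lhs => rw [hL]
      rw [closure_le]
      intro g hgm
      exact mem_centralizer_iff.2 fun w' hw' => mem_centralizer_singleton_iff.1 (h1 g hgm hw')
    exact (mem_centralizer_iff.1 (h2 hv) w hw).symm
  have hI : Inv x L := by
    refine ⟨hLn, fun h3 => ?_⟩
    haveI : Fact (Nat.Prime 3) := ⟨Nat.prime_three⟩
    obtain ⟨⟨y, hy⟩, hyo⟩ := exists_prime_orderOf_dvd_card' 3 h3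
    rw [orderOf_mk] at hyo
    obtain ⟨g, -, hgy⟩ := hs.hyp.conj_of_orderOf (H := ⊤) (mem_top x) (mem_top y) hyo
    have hcy : ∀ w, Commute w y → w ∈ zpowers y := by
      intro w hw
      have hw' : Commute (g⁻¹ * w * g) (g⁻¹ * y * g) := by
        have e := hw.map (MulAut.conj g⁻¹).toMonoidHom
        simpa using e
      have hm : g⁻¹ * w * g ∈ zpowers x := by
        refine hs.hyp.cent _ ?_
        rcases hgy with e | e
        · rwa [e, show g⁻¹ * (g * x * g⁻¹) * g = x by group] at hw'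
        · rw [e, show g⁻¹ * (g * x⁻¹ * g⁻¹) * g = x⁻¹ by group] at hw'
          simpa using hw'.inv_right
      have hw2 : w ∈ zpowers (g * x * g⁻¹) := by
        obtain ⟨k, hk⟩ := mem_zpowers_iff.1 hm
        refine mem_zpowers_iff.2 ⟨k, ?_⟩
        rw [conj_zpow, hk]; group
      rcases hgy with e | e
      · rw [e]; exact hw2
      · rw [e, show g * x⁻¹ * g⁻¹ = (g * x * g⁻¹)⁻¹ by group, zpowers_inv]; exact hw2
    have hxy : x * y * x⁻¹ ∈ zpowers y :=
      hcy _ (hcomm _ ((mem_normalizer_iff.1 hLn y).1 hy) y hy)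
    have hxmem : x ∈ normalizer (zpowers y : Set G) := by
      rw [mem_normalizer_iff_conjOf, conjOf, MonoidHom.map_zpowers]
      refine eq_of_le_of_card_ge (zpowers_le.2 hxy) ?_
      rw [Nat.card_zpowers, Nat.card_zpowers]
      exact ((MulAut.conj x).orderOf_eq y).ge
    have hy0 : y ≠ 1 := fun e => by rw [e, orderOf_one] at hyo; omega
    have hcomy : Commute x y := by
      have hmem := hxy
      have hyH : Hyp y := ⟨hyo, hcy⟩
      rcases hyH.cases hmem with e | e | e
      · exact absurd (by simpa using e) hy0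
      · exact mul_inv_eq_iff_eq_mul.1 e
      · exfalso
        have h5 : x * (x * (x * y * x⁻¹) * x⁻¹) * x⁻¹ = y := by
          have : x * (x * (x * y * x⁻¹) * x⁻¹) * x⁻¹ = x ^ 3 * y * (x ^ 3)⁻¹ := by simp [pow_succ, mul_assoc]
          rw [this, hs.hyp.pow_three, one_mul, inv_one, mul_one]
        rw [e, show x * y⁻¹ * x⁻¹ = (x * y * x⁻¹)⁻¹ by group, e, inv_inv, e] at h5
        have h2 : orderOf y ∣ 2 := orderOf_dvd_of_pow_eq_one (by
          rw [pow_two]; nth_rewrite 1 [← h5]; exact inv_mul_cancel y)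
        rw [hyo] at h2; omega
    have hyx := hs.hyp.cent y hcomy.symm
    have haY : a ∈ zpowers x := zpowers_le.2 hyx (hcy a (hcomm a haL y hy))
    rcases hs.hyp.cases haY with e | e | e
    · exact ha1 e
    · exact hax e
    · exact hax' e
  obtain ⟨K, hK, hle⟩ := exists_max hI (fun e => ha1 (mem_bot.1 (e ▸ haL)))
  exact ⟨K, hK, hle haL⟩

end CfsgLib.Recognition.SelfCentThree
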