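import Mathlib

/-!
# The degree bound and the finite search
-/

set_option autoImplicit false

namespace CfsgLib.Recognition.SelfCentThree.Numeric

/-- Possible orders of classes with trivial intersection. -/
def listX (N M : ℕ) : List ℕ :=
  (List.range (M + 1)).filter fun k =>
    decide (1 < k) && (k % 2 == 1) && (k % 3 == 1) && (N % k == 0) && decide (k * (k + 1) ≤ N)

/-- Possible square roots of orders of inverted classes. -/
def listS (N c : ℕ) : List ℕ :=
  (List.range (c + 1)).filter fun r =>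
    decide (1 < r) && (r % 2 == 1) && (c % r == 0) && (N % (r * r) == 0)

def oddBound (d m e : ℕ) : ℕ :=
  2 * ((listX (m * m * (d * (d + 1))) (m * (d + 1))).map (fun k => k - 1)).sum +
    ((listS (m * m * (d * (d + 1))) (m * e)).map (fun r => r * r - 1)).sum

def absDiff (a b : ℕ) : ℕ := (a - b) + (b - a)

/-- `true` unless the parameters pass every test and the order is neither 60 nor 168. -/
def check (d m e : ℕ) : Bool :=
  (m % 3 == 0) || decide (3 * e < 2 * d + 4) || (e % 2 == 1) || !((m * e) % 4 == 0) ||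
  decide (m * e < 1 + absDiff d e * absDiff d e + absDiff (d + 1) e * absDiff (d + 1) e) ||
  !((3 * (m * m * (d * (d + 1)))) % (m * e) == 0) ||
  decide (8 * ((6 + 6 * (m * e)) * e + m * m * e * (d * (d + 1)) + 2 * m * (e * (2 * d + 1))) +
      e * (120 * (m * (d + 1)) + 3 * ((m * e) * (m * e))) <
    8 * (m * m * e * (e * (2 * d + 1) + 2) + 6 * m * (d * (d + 1)))) ||
  (3 * (m * m * (d * (d + 1))) == 60) || (3 * (m * m * (d * (d + 1))) == 168) ||
  decide ((6 + 6 * (m * e)) * e + m * m * e * (d * (d + 1)) + 2 * m * (e * (2 * d + 1)) +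
      6 * oddBound d m e * e <
    m * m * e * (e * (2 * d + 1) + 2) + 6 * m * (d * (d + 1)))

def checkAll : Bool :=
  (List.range 168).all fun d => !(d % 3 == 1) || decide (d < 4) ||
    (List.range (167 / d + 1)).all fun m => (List.range ((4 * d + 2) / 3 + 1)).all fun e => check d m e

theorem checkAll_eq : checkAll = true := by decide +kernel

theorem md_le {d m e : ℕ} (hd : 4 ≤ d) (he : 2 * d + 4 ≤ 3 * e) (he' : 3 * e ≤ 4 * d + 2)
    (h : 8 * ((m : ℤ) * m * e * (e * (2 * d + 1) + 2 - d * (d + 1))) ≤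
      48 * e + 48 * m * e * e + e * (120 * (m * (d + 1)) + 3 * (m * e * (m * e)))) :
    m * d ≤ 167 := by
  have he0 : (0 : ℤ) < e := by omega
  have h1 : 8 * ((m : ℤ) * m * (e * (2 * d + 1) + 2 - d * (d + 1))) ≤
      48 + 48 * m * e + 120 * (m * (d + 1)) + 3 * (m * e * (m * e)) := by
    refine le_of_mul_le_mul_left ?_ he0
    linarith
  have hd' : (4 : ℤ) ≤ d := by exact_mod_cast hd
  have heZ : 2 * (d : ℤ) + 4 ≤ 3 * e := by exact_mod_cast he
  have heZ' : 3 * (e : ℤ) ≤ 4 * d + 2 := by exact_mod_cast he'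
  have hf : 4 * (d : ℤ) * d ≤ 3 * (8 * (e * (2 * d + 1) + 2 - d * (d + 1)) - 3 * (e * e)) := by
    nlinarith [mul_nonneg (sub_nonneg.2 heZ) (sub_nonneg.2 heZ'), sub_nonneg.2 heZ, sub_nonneg.2 heZ']
  have hm0 : (0 : ℤ) ≤ m := by positivity
  have h2 := mul_le_mul_of_nonneg_left hf (mul_nonneg hm0 hm0)
  have h3 : 3 * (48 * (m : ℤ) * e + 120 * (m * (d + 1))) ≤ 666 * (m * d) := by
    nlinarith [mul_le_mul_of_nonneg_left heZ' hm0, mul_le_mul_of_nonneg_left hd' hm0]
  have h4 : 4 * ((m : ℤ) * d) * (m * d) ≤ 144 + 666 * (m * d) := by nlinarith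
  by_contra hc
  have hcZ : (168 : ℤ) ≤ m * d := by exact_mod_cast (show 168 ≤ m * d by omega)
  nlinarith

/-- The finite search. -/
theorem orders {d m e O : ℕ} (hd : d % 3 = 1) (hd4 : 4 ≤ d) (hm : ¬ 3 ∣ m)
    (he2 : 2 ∣ e) (he : 2 * d + 4 ≤ 3 * e) (he' : 3 * e ≤ 4 * d + 2) (hc4 : 4 ∣ m * e)
    (hcol : 1 + absDiff d e * absDiff d e + absDiff (d + 1) e * absDiff (d + 1) e ≤ m * e)
    (hcG : m * e ∣ 3 * (m * m * (d * (d + 1))))
    (hmain : m * m * e * (e * (2 * d + 1) + 2) + 6 * m * (d * (d + 1)) ≤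
      (6 + 6 * (m * e)) * e + m * m * e * (d * (d + 1)) + 2 * m * (e * (2 * d + 1)) + 6 * O * e)
    (hcrude : 48 * O ≤ 120 * (m * (d + 1)) + 3 * ((m * e) * (m * e)))
    (hfine : O ≤ oddBound d m e) :
    3 * (m * m * (d * (d + 1))) = 60 ∨ 3 * (m * m * (d * (d + 1))) = 168 := by
  have hm0 : 0 < m := Nat.pos_of_ne_zero fun e0 => hm (e0 ▸ dvd_zero 3)
  have hI : e * (2 * d + 1) ≤ 3 * (d * (d + 1)) := by
    have := Nat.mul_le_mul_right (2 * d + 1) he'
    nlinarith
  have hcr : 48 * O * e ≤ (120 * (m * (d + 1)) + 3 * ((m * e) * (m * e))) * e :=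
    Nat.mul_le_mul_right e hcrude
  have hmd : m * d ≤ 167 := by
    refine md_le hd4 he he' ?_
    have a1 : ((m * m * e * (e * (2 * d + 1) + 2) + 6 * m * (d * (d + 1)) : ℕ) : ℤ) ≤
        ((6 + 6 * (m * e)) * e + m * m * e * (d * (d + 1)) + 2 * m * (e * (2 * d + 1)) + 6 * O * e : ℕ) :=
      Int.ofNat_le.2 hmain
    have a2 : ((48 * O * e : ℕ) : ℤ) ≤
        (((120 * (m * (d + 1)) + 3 * ((m * e) * (m * e))) * e : ℕ) : ℤ) := Int.ofNat_le.2 hcr
    have a3 : ((m : ℤ) * (e * (2 * d + 1))) ≤ m * (3 * (d * (d + 1))) := by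
      exact_mod_cast Nat.mul_le_mul_left m hI
    push_cast at a1 a2
    nlinarith
  have hd168 : d < 168 := by
    have := Nat.le_mul_of_pos_left d hm0
    omega
  have h := checkAll_eq
  rw [checkAll, List.all_eq_true] at h
  have h1 := h d (List.mem_range.2 hd168)
  simp only [Bool.or_eq_true, Bool.not_eq_true', beq_eq_false_iff_ne, decide_eq_true_eq] at h1
  rcases h1 with (h1 | h1) | h1
  · exact absurd hd h1
  · omega
  rw [List.all_eq_true] at h1
  have h2 := h1 m (List.mem_range.2 (Nat.lt_succ_of_le ((Nat.le_div_iff_mul_le (by omega)).2 hmd)))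
  rw [List.all_eq_true] at h2
  have h3 := h2 e (List.mem_range.2 (Nat.lt_succ_of_le ((Nat.le_div_iff_mul_le (by norm_num)).2 (by omega))))
  simp only [check, Bool.or_eq_true, Bool.not_eq_true', beq_eq_false_iff_ne, beq_iff_eq,
    decide_eq_true_eq] at h3
  have hfe : 6 * O * e ≤ 6 * oddBound d m e * e :=
    Nat.mul_le_mul_right e (Nat.mul_le_mul_left 6 hfine)
  rcases h3 with (((((((((h3 | h3) | h3) | h3) | h3) | h3) | h3) | h3) | h3) | h3)
  · omega
  · omega
  · omega
  · exact absurd (Nat.mod_eq_zero_of_dvd hc4) h3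
  · omega
  · exact absurd (Nat.mod_eq_zero_of_dvd hcG) h3
  · exfalso; nlinarith
  · exact Or.inl h3
  · exact Or.inr h3
  · omega

end CfsgLib.Recognition.SelfCentThree.Numeric
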