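import Cfsg.Agent.Lib.Recognition.SelfCentThree.Classes
import Cfsg.Agent.Lib.Recognition.SelfCentThree.Numeric
import Cfsg.Agent.Lib.SmallGroups.SimpleTools

/-!
# The order of a simple group with a self-centralising subgroup of order three
-/

set_option autoImplicit false

namespace CfsgLib.Recognition.SelfCentThree

open Subgroup

theorem list_merge_bound {M : ℕ} : ∀ (n : ℕ) (l : List ℕ), l.length = n → (∀ k ∈ l, 2 ≤ k ∧ k ≤ M) →
    4 * l.prod ≤ M * M → 4 * l.sum ≤ 5 * M := by
  intro n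
  induction n using Nat.strong_induction_on with
  | _ n ih =>
    intro l hl hk hp
    have merge : ∀ (a b : ℕ) (r : List ℕ), l.length = r.length + 2 →
        l.sum = a + b + r.sum → l.prod = a * b * r.prod → 2 ≤ a → 2 ≤ b →
        (∀ k ∈ r, 2 ≤ k ∧ k ≤ M) → a * b ≤ M → 4 * l.sum ≤ 5 * M := by
      intro a b r hlen hs hpr ha hb hr hab
      have h := ih (r.length + 1) (by omega) (a * b :: r) (by simp)
        (List.forall_mem_cons.2 ⟨⟨by nlinarith, hab⟩, hr⟩)
        (by rw [List.prod_cons, ← hpr]; exact hp)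
      rw [List.sum_cons] at h
      have : a + b ≤ a * b := by nlinarith
      omega
    match l with
    | [] => simp
    | [a] => simp at hk ⊢; omega
    | [a, b] =>
      simp at hk hp ⊢
      nlinarith [Nat.mul_le_mul hk.1.2 hk.2.2]
    | [a, b, c] =>
      simp at hk hp
      obtain ⟨⟨a2, aM⟩, ⟨b2, bM⟩, c2, cM⟩ := hk
      by_cases h1 : a * b ≤ M
      · exact merge a b [c] (by simp) (by simp; ring) (by simp; ring) a2 b2 (by simp [c2, cM]) h1
      by_cases h2 : a * c ≤ M
      · exact merge a c [b] (by simp) (by simp; ring) (by simp; ring) a2 c2 (by simp [b2, bM]) h2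
      by_cases h3 : b * c ≤ M
      · exact merge b c [a] (by simp) (by simp; ring) (by simp; ring) b2 c2 (by simp [a2, aM]) h3
      have hM : 0 < M := by omega
      have e1 : 4 * c < M := by
        by_contra hc
        nlinarith [Nat.mul_le_mul (Nat.succ_le_of_lt (not_le.1 h1)) (not_lt.1 hc)]
      have e2 : 4 * b < M := by
        by_contra hc
        nlinarith [Nat.mul_le_mul (Nat.succ_le_of_lt (not_le.1 h2)) (not_lt.1 hc)]
      have e3 : 4 * a < M := by
        by_contra hc
        nlinarith [Nat.mul_le_mul (Nat.succ_le_of_lt (not_le.1 h3)) (not_lt.1 hc)]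
      simp
      omega
    | a :: b :: c :: e :: r =>
      have ha := hk a (by simp)
      have hb := hk b (by simp)
      have hc := hk c (by simp)
      have he := hk e (by simp)
      by_cases h1 : a * b ≤ M
      · exact merge a b (c :: e :: r) (by simp) (by simp; ring) (by simp; ring) ha.1 hb.1
          (fun k hkm => hk k (by simp at hkm ⊢; tauto)) h1
      by_cases h2 : c * e ≤ M
      · exact merge c e (a :: b :: r) (by simp) (by simp; ring) (by simp; ring) hc.1 he.1
          (fun k hkm => hk k (by simp at hkm ⊢; tauto)) h2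
      exfalso
      have hr : 1 ≤ r.prod := List.one_le_prod fun k hkm => by
        have := hk k (by simp [hkm]); omega
      have h3 : (M + 1) * (M + 1) ≤ a * b * (c * e) := Nat.mul_le_mul (by omega) (by omega)
      have h4 : a * b * (c * e) ≤ (a :: b :: c :: e :: r).prod := by
        simp only [List.prod_cons]
        nlinarith [Nat.le_mul_of_pos_right (a * b * (c * e)) hr]
      nlinarith

theorem prod_dvd_of_pairwise_coprime {n : ℕ} (s : Finset ℕ)
    (hc : ∀ a ∈ s, ∀ b ∈ s, a ≠ b → Nat.Coprime a b) (hd : ∀ a ∈ s, a ∣ n) : ∏ a ∈ s, a ∣ n := by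
  classical
  induction s using Finset.induction_on with
  | empty => simp
  | @insert a s ha ih =>
    rw [Finset.prod_insert ha]
    refine Nat.Coprime.mul_dvd_of_dvd_of_dvd (Nat.Coprime.prod_right fun b hb => ?_)
      (hd a (Finset.mem_insert_self a s))
      (ih (fun p hp q hq => hc p (Finset.mem_insert_of_mem hp) q (Finset.mem_insert_of_mem hq))
        fun p hp => hd p (Finset.mem_insert_of_mem hp))
    exact hc a (Finset.mem_insert_self a s) b (Finset.mem_insert_of_mem hb) fun e => ha (e ▸ hb)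

theorem four_mul_prod_dvd {n : ℕ} (h4 : 4 ∣ n) (s : Finset ℕ)
    (hc : ∀ a ∈ s, ∀ b ∈ s, a ≠ b → Nat.Coprime a b) (hd : ∀ a ∈ s, a ∣ n) (ho : ∀ a ∈ s, Odd a) :
    4 * ∏ a ∈ s, a ∣ n := by
  refine Nat.Coprime.mul_dvd_of_dvd_of_dvd ?_ h4 (prod_dvd_of_pairwise_coprime s hc hd)
  refine Nat.Coprime.prod_right fun a ha => ?_
  exact Nat.Coprime.pow_left 2 (Nat.coprime_two_left.2 (ho a ha))

variable {G : Type*} [Group G] [Finite G] [IsSimpleGroup G] {x u : G}

theorem Setup.share_size (hs : Setup x u) {K K' : Subgroup G} (hK : IsMax x K) (hK' : IsMax x K')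
    (ho : Odd (Nat.card K)) (ho' : Odd (Nat.card K')) {p : ℕ} (hp : p.Prime)
    (h1 : p ∣ Nat.card K) (h2 : p ∣ Nat.card K') : K' = K ∨ K' = conjOf u K := by
  refine hs.share_prime hK hK' hp h1 h2 (Or.inl ?_)
  rintro rfl
  exact Nat.not_even_iff_odd.2 ho (even_iff_two_dvd.2 h1)

theorem Setup.coprime_size (hs : Setup x u) {K K' : Subgroup G} (hK : IsMax x K) (hK' : IsMax x K')
    (ho : Odd (Nat.card K)) (ho' : Odd (Nat.card K')) (hne : Nat.card K ≠ Nat.card K') :
    (Nat.card K).Coprime (Nat.card K') := by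
  refine Nat.coprime_of_dvd fun p hp h1 h2 => hne ?_
  rcases hs.share_size hK hK' ho ho' hp h1 h2 with e | e <;> rw [e]
  rw [card_conjOf]

/-- The bound on the total size of the maximal subgroups of odd order. -/
theorem Setup.odd_bound (hs : Setup x u) {d m e : ℕ}
    (hG : Nat.card G = 3 * (m * m * (d * (d + 1)))) (hc : Nat.card (centralizer ({u} : Set G)) = m * e)
    (h4G : 4 ∣ m * m * (d * (d + 1))) (h4c : 4 ∣ m * e)
    (F : Finset (Subgroup G)) (hF : ∀ K ∈ F, IsMax x K ∧ Odd (Nat.card K)) :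
    48 * ∑ K ∈ F, (Nat.card K - 1) ≤ 120 * (m * (d + 1)) + 3 * ((m * e) * (m * e)) ∧
    ∑ K ∈ F, (Nat.card K - 1) ≤ Numeric.oddBound d m e := by
  classical
  set N := m * m * (d * (d + 1)) with hN
  set M := m * (d + 1) with hM
  set c := m * e with hcdef
  have hNpos : 0 < N := by
    have := Nat.card_pos (α := G); rw [hG] at this; omega
  have hmpos : 0 < m := by
    rcases Nat.eq_zero_or_pos m with e0 | e0
    · rw [hN, e0] at hNpos; simp at hNpos
    · exact e0
  have hNM : N ≤ M * M := by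
    rw [hN, hM]; nlinarith [Nat.zero_le (m * m * (d + 1))]
  have hcpos : 0 < c := hc ▸ Nat.card_pos
  set FX := F.filter fun K : Subgroup G => TypeX K
  set FS := F.filter fun K : Subgroup G => ¬ TypeX K
  set TX := FX.image fun K : Subgroup G => Nat.card K with hTX
  set RS := FS.image fun K : Subgroup G => Nat.sqrt (Nat.card K) with hRS
  have hgt : ∀ K ∈ F, 2 ≤ Nat.card K := fun K hK => by
    haveI : Nontrivial K := (nontrivial_iff_ne_bot K).2 (hF K hK).1.ne_bot
    exact Finite.one_lt_card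
  have hdvdN : ∀ K ∈ F, Nat.card K ∣ N := fun K hK => by
    refine ((Nat.prime_three.coprime_iff_not_dvd.2 (hF K hK).1.inv.cop).symm).dvd_of_dvd_mul_left ?_
    exact hG ▸ card_subgroup_dvd_card K
  have hmod : ∀ K ∈ F, Nat.card K % 3 = 1 := fun K hK => (hF K hK).1.inv.card_mod hs.hyp
  have hTXmem : ∀ k ∈ TX, 2 ≤ k ∧ k ≤ M ∧ Odd k ∧ k % 3 = 1 ∧ k ∣ N ∧ k * (k + 1) ≤ N := by
    intro k hk
    obtain ⟨K, hK, rfl⟩ := Finset.mem_image.1 hk
    obtain ⟨hKF, hX⟩ := Finset.mem_filter.1 hK
    have hb := hs.typeX_bound (hF K hKF).1 hX (hF K hKF).2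
    rw [hG] at hb
    have hb' : Nat.card K * (Nat.card K + 1) ≤ N := Nat.le_of_mul_le_mul_left hb (by norm_num)
    exact ⟨hgt K hKF, Nat.mul_self_le_mul_self_iff.1 ((Nat.mul_le_mul_left _ (Nat.le_succ _)).trans
      (hb'.trans hNM)), (hF K hKF).2, hmod K hKF, hdvdN K hKF, hb'⟩
  have hSsq : ∀ K ∈ FS, ∃ r, Nat.card K = r * r ∧ Nat.sqrt (Nat.card K) = r ∧ r ∣ c := by
    intro K hK
    obtain ⟨hKF, hX⟩ := Finset.mem_filter.1 hK
    obtain ⟨r, hr, hr'⟩ := hs.inverted_square (hF K hKF).1 hX (hF K hKF).2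
    exact ⟨r, hr, by rw [hr, Nat.sqrt_eq], hc ▸ hr'⟩
  have hRSmem : ∀ r ∈ RS, 2 ≤ r ∧ r ∣ c ∧ Odd r ∧ r * r ∣ N := by
    intro r hr
    obtain ⟨K, hK, rfl⟩ := Finset.mem_image.1 hr
    obtain ⟨r, h1, h2, h3⟩ := hSsq K hK
    have hKF := (Finset.mem_filter.1 hK).1
    have := hgt K hKF
    refine ⟨?_, h2 ▸ h3, ?_, ?_⟩ <;> rw [h2]
    · by_contra hlt
      interval_cases r <;> omega
    · have := (hF K hKF).2
      rw [h1] at this
      exact (Nat.odd_mul.1 this).1
    · exact h1 ▸ hdvdN K hKF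
  -- the two sums
  have hsumX : ∑ K ∈ FX, (Nat.card K - 1) ≤ 2 * ∑ k ∈ TX, (k - 1) := by
    rw [← Finset.sum_fiberwise_of_maps_to (g := fun K : Subgroup G => Nat.card K) (t := TX)
      (fun K hK => Finset.mem_image_of_mem _ hK), Finset.mul_sum]
    refine Finset.sum_le_sum fun k hk => ?_
    rw [Finset.sum_congr rfl fun K hK => by rw [(Finset.mem_filter.1 hK).2], Finset.sum_const,
      smul_eq_mul]
    refine Nat.mul_le_mul_right _ ?_
    obtain ⟨K0, hK0, hK0k⟩ := Finset.mem_image.1 hk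
    refine (Finset.card_le_card (t := {K0, conjOf u K0}) fun K hK => ?_).trans Finset.card_le_two
    obtain ⟨hKX, hKk⟩ := Finset.mem_filter.1 hK
    have hKF := (Finset.mem_filter.1 hKX).1
    have hK0F := (Finset.mem_filter.1 hK0).1
    obtain ⟨p, hp, hpd⟩ := Nat.exists_prime_and_dvd (n := k) (by have := hgt K hKF; omega)
    rcases hs.share_size (hF K0 hK0F).1 (hF K hKF).1 (hF K0 hK0F).2 (hF K hKF).2 hp
      (by rw [hK0k]; exact hpd) (by rw [hKk]; exact hpd) with e | e <;> simp [e]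
  have hsumS : ∑ K ∈ FS, (Nat.card K - 1) ≤ ∑ r ∈ RS, (r * r - 1) := by
    rw [hRS, Finset.sum_image]
    · refine (Finset.sum_congr rfl fun K hK => ?_).le
      obtain ⟨r, h1, h2, -⟩ := hSsq K hK
      rw [h2, ← h1]
    · intro K hK K' hK' e
      obtain ⟨r, h1, h2, -⟩ := hSsq K hK
      obtain ⟨r', h1', h2', -⟩ := hSsq K' hK'
      have hKF := (Finset.mem_filter.1 hK).1
      have hKF' := (Finset.mem_filter.1 hK').1
      simp only [h2, h2'] at e
      subst e
      obtain ⟨p, hp, hpd⟩ := Nat.exists_prime_and_dvd (n := Nat.card K) (by have := hgt K hKF; omega)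
      rcases hs.share_size (hF K hKF).1 (hF K' hKF').1 (hF K hKF).2 (hF K' hKF').2 hp hpd
        (by rw [h1']; rw [h1] at hpd; exact hpd) with e | e
      · exact e.symm
      · rw [mem_normalizer_iff_conjOf.1 (hs.not_typeX (hF K hKF).1 (Finset.mem_filter.1 hK).2).2] at e
        exact e.symm
  have hsplit : ∑ K ∈ F, (Nat.card K - 1) = ∑ K ∈ FX, (Nat.card K - 1) + ∑ K ∈ FS, (Nat.card K - 1) :=
    (Finset.sum_filter_add_sum_filter_not F (fun K => TypeX K) _).symm
  -- pairwise coprime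
  have hcopX : ∀ a ∈ TX, ∀ b ∈ TX, a ≠ b → Nat.Coprime a b := by
    intro a ha b hb hne
    obtain ⟨K, hK, rfl⟩ := Finset.mem_image.1 ha
    obtain ⟨K', hK', rfl⟩ := Finset.mem_image.1 hb
    exact hs.coprime_size (hF K (Finset.mem_filter.1 hK).1).1 (hF K' (Finset.mem_filter.1 hK').1).1
      (hF K (Finset.mem_filter.1 hK).1).2 (hF K' (Finset.mem_filter.1 hK').1).2 hne
  have hcopS : ∀ a ∈ RS, ∀ b ∈ RS, a ≠ b → Nat.Coprime a b := by
    intro a ha b hb hne
    obtain ⟨K, hK, rfl⟩ := Finset.mem_image.1 ha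
    obtain ⟨K', hK', rfl⟩ := Finset.mem_image.1 hb
    obtain ⟨r, h1, h2, -⟩ := hSsq K hK
    obtain ⟨r', h1', h2', -⟩ := hSsq K' hK'
    rw [h2, h2'] at hne ⊢
    have := hs.coprime_size (hF K (Finset.mem_filter.1 hK).1).1 (hF K' (Finset.mem_filter.1 hK').1).1
      (hF K (Finset.mem_filter.1 hK).1).2 (hF K' (Finset.mem_filter.1 hK').1).2
      (by rw [h1, h1']; exact fun e => hne (Nat.mul_self_inj.1 e))
    rw [h1, h1'] at this
    exact (this.coprime_mul_left).coprime_mul_left_right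
  -- crude bound
  have hXcrude : 4 * ∑ k ∈ TX, (k - 1) ≤ 5 * M := by
    have hd := four_mul_prod_dvd h4G TX hcopX (fun k hk => (hTXmem k hk).2.2.2.2.1)
      (fun k hk => (hTXmem k hk).2.2.1)
    have := list_merge_bound (M := M) _ TX.toList rfl
      (fun k hk => ⟨(hTXmem k (Finset.mem_toList.1 hk)).1, (hTXmem k (Finset.mem_toList.1 hk)).2.1⟩)
      (by rw [Finset.prod_toList]; exact (Nat.le_of_dvd hNpos hd).trans hNM)
    rw [Finset.sum_toList] at this
    have hle : ∑ k ∈ TX, (k - 1) ≤ ∑ k ∈ TX, k := Finset.sum_le_sum fun k _ => Nat.sub_le k 1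
    omega
  have hScrude : 16 * ∑ r ∈ RS, (r * r - 1) ≤ c * c := by
    have hd := Nat.le_of_dvd hcpos
      (four_mul_prod_dvd h4c RS hcopS (fun r hr => (hRSmem r hr).2.1) (fun r hr => (hRSmem r hr).2.2.1))
    have key : ∀ s : Finset ℕ, (∀ r ∈ s, 2 ≤ r) →
        ∑ r ∈ s, (r * r - 1) + 1 ≤ (∏ r ∈ s, r) * (∏ r ∈ s, r) := by
      intro s
      induction s using Finset.induction_on with
      | empty => intro; simp
      | @insert a s ha ih =>
        intro hs2
        have h2 := hs2 a (Finset.mem_insert_self a s)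
        have h3 := ih fun r hr => hs2 r (Finset.mem_insert_of_mem hr)
        rw [Finset.sum_insert ha, Finset.prod_insert ha]
        set P := (∏ r ∈ s, r) * (∏ r ∈ s, r)
        have e : a * (∏ r ∈ s, r) * (a * ∏ r ∈ s, r) = a * a * P := by ring
        rw [e]
        have h5 : a * a - 1 + P ≤ a * a * P := by
          have : 4 ≤ a * a := by nlinarith
          obtain ⟨j, hj⟩ : ∃ j, a * a = j + 1 := ⟨a * a - 1, by omega⟩
          rw [hj, Nat.add_sub_cancel]
          have hP : 1 ≤ P := by omega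
          nlinarith
        omega
    have h6 := key RS fun r hr => (hRSmem r hr).1
    nlinarith [Nat.mul_le_mul hd hd]
  -- fine bound
  have hXfine : ∑ k ∈ TX, (k - 1) ≤ ((Numeric.listX N M).map fun k => k - 1).sum := by
    rw [← List.sum_toFinset _ (show (Numeric.listX N M).Nodup from List.Nodup.filter _ List.nodup_range)]
    refine Finset.sum_le_sum_of_subset fun k hk => ?_
    obtain ⟨h1, h2, h3, h4, h5, h6⟩ := hTXmem k hk
    rw [List.mem_toFinset]
    simp only [Numeric.listX, List.mem_filter, List.mem_range, Bool.and_eq_true, decide_eq_true_eq,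
      beq_iff_eq]
    exact ⟨by omega, ⟨⟨⟨by omega, Nat.odd_iff.1 h3⟩, h4⟩, Nat.mod_eq_zero_of_dvd h5⟩, h6⟩
  have hSfine : ∑ r ∈ RS, (r * r - 1) ≤ ((Numeric.listS N c).map fun r => r * r - 1).sum := by
    rw [← List.sum_toFinset _ (show (Numeric.listS N c).Nodup from List.Nodup.filter _ List.nodup_range)]
    refine Finset.sum_le_sum_of_subset fun r hr => ?_
    obtain ⟨h1, h2, h3, h4⟩ := hRSmem r hr
    rw [List.mem_toFinset]
    simp only [Numeric.listS, List.mem_filter, List.mem_range, Bool.and_eq_true, decide_eq_true_eq,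
      beq_iff_eq]
    exact ⟨Nat.lt_succ_of_le (Nat.le_of_dvd hcpos h2), ⟨⟨by omega, Nat.odd_iff.1 h3⟩,
      Nat.mod_eq_zero_of_dvd h2⟩, Nat.mod_eq_zero_of_dvd h4⟩
  refine ⟨by omega, ?_⟩
  rw [Numeric.oddBound]
  simp only [← hN, ← hM, ← hcdef]
  omega

/-- The involution count bounds the maximal subgroups of even order. -/
theorem Setup.even_bound (hs : Setup x u) {c : ℕ}
    (hc : Nat.card (centralizer ({u} : Set G)) = c) (hc2 : 2 ≤ c)
    (F : Finset (Subgroup G)) (hF : ∀ K ∈ F, IsMax x K ∧ 2 ∣ Nat.card K) :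
    6 * ∑ K ∈ F, (Nat.card K - 1) ≤ Nat.card (invSet x) * (c - 2) + 6 * c := by
  classical
  cases nonempty_fintype G
  -- disjoint involutions
  have hI : 3 * F.card ≤ Nat.card (invSet x) := by
    have hsub : F.biUnion (fun K => ((zTwo K : Set G).toFinset).erase 1) ⊆ (invSet x).toFinset := by
      intro z hz
      obtain ⟨K, hK, hzK⟩ := Finset.mem_biUnion.1 hz
      obtain ⟨hz1, hzK⟩ := Finset.mem_erase.1 hzK
      rw [Set.mem_toFinset] at hzK ⊢
      exact (hs.zTwo_bound (hF K hK).1 (hF K hK).2).2.2.2 z hzK hz1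
    have hd := Finset.card_le_card hsub
    rw [Finset.card_biUnion ?_, ← Nat.card_eq_card_toFinset] at hd
    · refine le_trans ?_ hd
      rw [mul_comm, ← smul_eq_mul]
      refine Finset.card_nsmul_le_sum _ _ _ fun K hK => ?_
      have := (hs.zTwo_bound (hF K hK).1 (hF K hK).2).2.2.1
      rw [Finset.card_erase_of_mem (Set.mem_toFinset.2 (one_mem (zTwo K))), ← Nat.card_eq_card_toFinset]
      show 3 ≤ Nat.card (zTwo K) - 1
      omega
    · intro K hK K' hK' hne
      rw [Function.onFun, Finset.disjoint_left]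
      intro z h1 h2
      obtain ⟨hz1, h1⟩ := Finset.mem_erase.1 h1
      obtain ⟨-, h2⟩ := Finset.mem_erase.1 h2
      rw [Set.mem_toFinset] at h1 h2
      have := hs.zTwo_disjoint (hF K hK).1 (hF K' hK').1 hne
      exact hz1 (mem_bot.1 (this ▸ ⟨h1, h2⟩))
  have hX : (F.filter fun K : Subgroup G => TypeX K).card ≤ 2 := by
    rcases (F.filter fun K : Subgroup G => TypeX K).eq_empty_or_nonempty with e | ⟨K0, hK0⟩
    · simp [e]
    · obtain ⟨hK0F, hK0X⟩ := Finset.mem_filter.1 hK0
      refine (Finset.card_le_card (t := {K0, conjOf u K0}) fun K hK => ?_).trans Finset.card_le_two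
      obtain ⟨hKF, hKX⟩ := Finset.mem_filter.1 hK
      rcases hs.share_prime (hF K0 hK0F).1 (hF K hKF).1 Nat.prime_two (hF K0 hK0F).2 (hF K hKF).2
        (Or.inr ⟨hK0X, hKX⟩) with e | e <;> simp [e]
  have hterm : ∀ K ∈ F, 2 * (Nat.card K - 1) ≤ (c - 2) + (if TypeX K then c else 0) := by
    intro K hK
    obtain ⟨h1, h2, -, -⟩ := hs.zTwo_bound (hF K hK).1 (hF K hK).2
    rw [hc] at h1 h2
    split_ifs with hX'
    · omega
    · have := h2 hX'; omega
  have hsum := Finset.sum_le_sum hterm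
  rw [← Finset.mul_sum, Finset.sum_add_distrib, Finset.sum_const, ← Finset.sum_filter, Finset.sum_const,
    smul_eq_mul, smul_eq_mul] at hsum
  have a1 := Nat.mul_le_mul_right (c - 2) hI
  have a2 := Nat.mul_le_mul_right c hX
  nlinarith

/-- Pairs lie in the maximal subgroups. -/
theorem Setup.pair_bound (hs : Setup x u) (F : Finset (Subgroup G)) (hF : ∀ K, IsMax x K → K ∈ F) :
    Nat.card (pairSet x) ≤ ∑ K ∈ F, (Nat.card K - 1) + 1 := by
  classical
  cases nonempty_fintype G
  have hsub : ((pairSet x).toFinset.erase 1) ⊆ F.biUnion (fun K => ((K : Set G).toFinset).erase 1) := by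
    intro a ha
    obtain ⟨ha1, ha⟩ := Finset.mem_erase.1 ha
    obtain ⟨K, hK, haK⟩ := hs.pair_mem (Set.mem_toFinset.1 ha) ha1
    exact Finset.mem_biUnion.2 ⟨K, hF K hK, Finset.mem_erase.2 ⟨ha1, Set.mem_toFinset.2 haK⟩⟩
  have h1 := (Finset.card_le_card hsub).trans Finset.card_biUnion_le
  have h2 := Finset.pred_card_le_card_erase (s := (pairSet x).toFinset) (a := 1)
  rw [← Nat.card_eq_card_toFinset] at h2
  have h3 : ∑ K ∈ F, (((K : Set G).toFinset).erase 1).card = ∑ K ∈ F, (Nat.card K - 1) :=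
    Finset.sum_congr rfl fun K _ => by
      rw [Finset.card_erase_of_mem (Set.mem_toFinset.2 (one_mem K)), ← Nat.card_eq_card_toFinset]
      rfl
  omega

/-- The order of a simple group with a self-centralising subgroup of order three. -/
theorem simple_order {G : Type*} [Group G] [Finite G] [IsSimpleGroup G] {x : G}
    (hnc : ¬ IsMulCommutative G) (h : Hyp x) (hloc : Local x) :
    Nat.card G = 60 ∨ Nat.card G = 168 := by
  classical
  cases nonempty_fintype G
  obtain ⟨u, hu, hu1, hux⟩ : ∃ w : G, w * w = 1 ∧ w ≠ 1 ∧ w * x * w⁻¹ = x⁻¹ := by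
    refine h.exists_invert.resolve_right ?_
    rintro ⟨M, hM, hM3, hMc⟩
    rcases hM.eq_bot_or_eq_top with e | e
    · rw [e, card_bot, mul_one] at hMc
      exact hnc (isMulCommutative_iff.2 fun a b => by
        haveI : Fact (Nat.Prime 3) := ⟨Nat.prime_three⟩
        haveI : IsCyclic G := isCyclic_of_prime_card hMc
        letI := IsCyclic.commGroup (α := G)
        exact mul_comm a b)
    · rw [e, card_top] at hMc hM3
      omega
  obtain ⟨d, m, e, hd3, hd4, hm3, he2, helo, hehi, hc, hcol, hG, hP, hI, hclass⟩ :=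
    exists_data hnc h hu hu1 hux
  have hs : Setup x u := ⟨h, hloc, hu, hu1, hux, hclass⟩
  haveI : Fact (Nat.Prime 2) := ⟨Nat.prime_two⟩
  -- four divides the order and the centraliser
  have hou : orderOf u = 2 := orderOf_eq_prime (by rw [pow_two]; exact hu) hu1
  have h2G : 2 ∣ Nat.card G := hou ▸ orderOf_dvd_natCard u
  obtain ⟨S⟩ : Nonempty (Sylow 2 G) := inferInstance
  have hS4 : 4 ∣ Nat.card (S : Subgroup G) := by
    obtain ⟨n, hn⟩ := IsPGroup.iff_card.1 S.2
    rcases n with _ | _ | n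
    · exact absurd (S.ne_bot_of_dvd_card h2G) (not_not.2 (card_eq_one.1 (by simpa using hn)))
    · exfalso
      refine CfsgLib.SmallGroups.SimpleTools.not_normalizer_le hnc h2G S fun g hg => ?_
      refine mem_centralizer_iff.2 fun s hsS => ?_
      by_cases hs1 : s = 1
      · simp [hs1]
      have hall : ∀ w ∈ (S : Subgroup G), w ≠ 1 → w = s := by
        intro w hw hw1
        obtain ⟨a, b, -, hab⟩ := Nat.card_eq_two_iff.1 (show Nat.card (S : Subgroup G) = 2 by simpa using hn)
        have hmem : ∀ t : (S : Subgroup G), t = a ∨ t = b := fun t => by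
          have : t ∈ ({a, b} : Set (S : Subgroup G)) := hab ▸ Set.mem_univ t
          simpa using this
        rcases hmem ⟨w, hw⟩ with e1 | e1 <;> rcases hmem ⟨s, hsS⟩ with e2 | e2 <;>
          rcases hmem 1 with e3 | e3
        all_goals first
          | exact congrArg Subtype.val (e1.trans e2.symm)
          | exact absurd (congrArg Subtype.val (e1.trans e3.symm)) hw1
          | exact absurd (congrArg Subtype.val (e2.trans e3.symm)) hs1
      have := hall (g * s * g⁻¹) ((mem_normalizer_iff.1 hg s).1 hsS) (fun e1 => hs1 (by simpa using e1))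
      exact (mul_inv_eq_iff_eq_mul.1 this).symm
    · exact hn ▸ dvd_trans (by norm_num) (pow_dvd_pow 2 (show 2 ≤ n + 1 + 1 by omega))
  have h4G : 4 ∣ m * m * (d * (d + 1)) := by
    have := hS4.trans (card_subgroup_dvd_card (S : Subgroup G))
    rw [hG] at this
    omega
  have h4c : 4 ∣ m * e := by
    haveI : Nontrivial (S : Subgroup G) := (nontrivial_iff_ne_bot _).2 (S.ne_bot_of_dvd_card h2G)
    haveI := S.2.center_nontrivial
    obtain ⟨n, hn, hcard⟩ := (S.2.to_subgroup (center (S : Subgroup G))).nontrivial_iff_card.1 inferInstance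
    obtain ⟨z, hzo⟩ := exists_prime_orderOf_dvd_card' (G := center (S : Subgroup G)) 2
      (hcard ▸ dvd_pow_self 2 hn.ne')
    have hz : orderOf ((z : (S : Subgroup G)) : G) = 2 := by rw [orderOf_coe, orderOf_coe, hzo]
    have hle : (S : Subgroup G) ≤ centralizer ({((z : (S : Subgroup G)) : G)} : Set G) := fun s hsS =>
      mem_centralizer_singleton_iff.2 (congrArg Subtype.val (mem_center_iff.1 z.2 ⟨s, hsS⟩))
    have hzz : ((z : (S : Subgroup G)) : G) * ((z : (S : Subgroup G)) : G) = 1 := by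
      have := pow_orderOf_eq_one ((z : (S : Subgroup G)) : G)
      rwa [hz, pow_two] at this
    have hz1 : ((z : (S : Subgroup G)) : G) ≠ 1 := fun e1 => by rw [e1, orderOf_one] at hz; omega
    obtain ⟨g, hg⟩ := isConj_iff.1 (hclass _ hzz hz1)
    rw [← hc, ← hg, centralizer_conj_card]
    exact hS4.trans (card_dvd_of_le hle)
  have hc4 : 4 ≤ m * e := Nat.le_of_dvd (hc ▸ Nat.card_pos) h4c
  -- the partition of the maximal subgroups
  cases nonempty_fintype (Subgroup G)
  set F : Finset (Subgroup G) := Finset.univ.filter fun K => IsMax x K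
  set Fo := F.filter fun K : Subgroup G => Odd (Nat.card K)
  set Fe := F.filter fun K : Subgroup G => ¬ Odd (Nat.card K)
  have hFm : ∀ K, K ∈ F ↔ IsMax x K := fun K => by simp [F]
  obtain ⟨hO1, hO2⟩ := hs.odd_bound hG hc h4G h4c Fo
    (fun K hK => ⟨(hFm K).1 (Finset.mem_filter.1 hK).1, (Finset.mem_filter.1 hK).2⟩)
  have hE := hs.even_bound hc (by omega) Fe (fun K hK => ⟨(hFm K).1 (Finset.mem_filter.1 hK).1,
    even_iff_two_dvd.1 (Nat.not_odd_iff_even.1 (Finset.mem_filter.1 hK).2)⟩)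
  have hPb := hs.pair_bound F fun K hK => (hFm K).2 hK
  rw [← Finset.sum_filter_add_sum_filter_not F (fun K : Subgroup G => Odd (Nat.card K))] at hPb
  set O := ∑ K ∈ Fo, (Nat.card K - 1) with hOdef
  set E := ∑ K ∈ Fe, (Nat.card K - 1)
  have hmain : m * m * e * (e * (2 * d + 1) + 2) + 6 * m * (d * (d + 1)) ≤
      (6 + 6 * (m * e)) * e + m * m * e * (d * (d + 1)) + 2 * m * (e * (2 * d + 1)) + 6 * O * e := by
    obtain ⟨c2, hc2⟩ : ∃ c2, m * e = c2 + 2 := ⟨m * e - 2, by omega⟩
    rw [hc2, Nat.add_sub_cancel] at hE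
    have b1 : (((2 * (m * m * (d * (d + 1) + 1)) : ℕ) : ℤ)) ≤
        ((Nat.card (invSet x) * c2 + 6 * (c2 + 2) + 6 * O + 6 : ℕ) : ℤ) := by
      refine Int.ofNat_le.2 ?_
      omega
    have hIz : ((e * Nat.card (invSet x) + m * (e * (2 * d + 1)) : ℕ) : ℤ) =
        ((3 * (m * (d * (d + 1))) : ℕ) : ℤ) := congrArg Nat.cast hI
    have hcz : ((m * e : ℕ) : ℤ) = ((c2 + 2 : ℕ) : ℤ) := congrArg Nat.cast hc2
    push_cast at b1 hIz hcz
    have b2 := mul_le_mul_of_nonneg_right b1 (Int.natCast_nonneg e)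
    rw [show ((c2 : ℤ)) = m * e - 2 by linarith] at b2
    zify
    linear_combination b2 + ((m : ℤ) * e - 2) * hIz
  have hcol' : 1 + Numeric.absDiff d e * Numeric.absDiff d e +
      Numeric.absDiff (d + 1) e * Numeric.absDiff (d + 1) e ≤ m * e := by
    have key : ∀ a b : ℕ, ((Numeric.absDiff a b : ℕ) : ℤ) * (Numeric.absDiff a b : ℕ) = ((a : ℤ) - b) ^ 2 := by
      intro a b
      unfold Numeric.absDiff
      rcases le_total a b with hab | hab
      · rw [Nat.sub_eq_zero_of_le hab, zero_add, Nat.cast_sub hab]; ring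
      · rw [Nat.sub_eq_zero_of_le hab, add_zero, Nat.cast_sub hab]; ring
    zify
    rw [key, key]
    push_cast
    exact_mod_cast hcol
  have hcG : m * e ∣ 3 * (m * m * (d * (d + 1))) := hc ▸ hG ▸ card_subgroup_dvd_card _
  rw [hG]
  exact Numeric.orders hd3 hd4 hm3 he2 helo hehi h4c hcol' hcG hmain hO1 hO2

end CfsgLib.Recognition.SelfCentThree
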