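import Cfsg.Agent.Lib.Recognition.SelfCentThree.A5
import Cfsg.Agent.Lib.Solvable.FrattiniFitting

/-!
# Maximal subgroups of order prime to three normalised by `x`
-/

set_option autoImplicit false

namespace CfsgLib.Recognition.SelfCentThree

open Subgroup

variable {G : Type*} [Group G] {x : G}

/-- The inductive hypothesis: proper subgroups containing `x` satisfy the conclusion. -/
def Local (x : G) : Prop := ∀ H : Subgroup G, H ≠ ⊤ → x ∈ H → Dich H

/-- A nontrivial maximal invariant subgroup. -/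
structure IsMax (x : G) (K : Subgroup G) : Prop where
  inv : Inv x K
  ne_bot : K ≠ ⊥
  max : ∀ L, Inv x L → K ≤ L → L = K

/-- The image of a subgroup under conjugation. -/
abbrev conjOf (g : G) (K : Subgroup G) : Subgroup G := K.map (MulAut.conj g).toMonoidHom

theorem mem_conjOf {g : G} {K : Subgroup G} {a : G} : a ∈ conjOf g K ↔ g⁻¹ * a * g ∈ K := by
  rw [mem_map_equiv, MulAut.conj_symm_apply]

theorem conjOf_conjOf (g k : G) (K : Subgroup G) : conjOf g (conjOf k K) = conjOf (g * k) K := by
  ext a; simp only [mem_conjOf]; group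

theorem conjOf_one (K : Subgroup G) : conjOf (1 : G) K = K := by
  ext a; simp [mem_conjOf]

theorem mem_normalizer_iff_conjOf {g : G} {K : Subgroup G} :
    g ∈ normalizer (K : Set G) ↔ conjOf g K = K := mem_normalizer_iff_map_conj_eq

theorem card_conjOf (g : G) (K : Subgroup G) : Nat.card (conjOf g K) = Nat.card K :=
  card_map_of_injective (MulAut.conj g).injective

theorem normalizer_conjOf (g : G) (K : Subgroup G) :
    normalizer ((conjOf g K : Subgroup G) : Set G) = conjOf g (normalizer (K : Set G)) := by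
  ext a
  rw [mem_normalizer_iff_conjOf, mem_conjOf, mem_normalizer_iff_conjOf, conjOf_conjOf]
  constructor <;> intro e
  · calc conjOf (g⁻¹ * a * g) K = conjOf g⁻¹ (conjOf (a * g) K) := by rw [conjOf_conjOf, mul_assoc]
      _ = K := by rw [e, conjOf_conjOf, inv_mul_cancel, conjOf_one]
  · calc conjOf (a * g) K = conjOf g (conjOf (g⁻¹ * a * g) K) := by
          rw [conjOf_conjOf]; congr 1; group
      _ = conjOf g K := by rw [e]

theorem centralizer_conj_card (g z : G) :
    Nat.card (centralizer ({g * z * g⁻¹} : Set G)) = Nat.card (centralizer ({z} : Set G)) := by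
  rw [← card_conjOf g (centralizer ({z} : Set G))]
  congr 1
  have : centralizer ({g * z * g⁻¹} : Set G) = conjOf g (centralizer ({z} : Set G)) := by
    ext a
    simp only [mem_conjOf, mem_centralizer_singleton_iff]
    constructor <;> intro e
    · calc g⁻¹ * a * g * z = g⁻¹ * (a * (g * z * g⁻¹)) * g := by group
        _ = z * (g⁻¹ * a * g) := by rw [e]; group
    · calc a * (g * z * g⁻¹) = g * (g⁻¹ * a * g * z) * g⁻¹ := by group
        _ = g * z * g⁻¹ * a := by rw [e]; group
  rw [this]

variable [Finite G]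

/-- Burnside: either some element inverts `x` or there is a normal complement. -/
theorem Hyp.exists_invert (h : Hyp x) :
    (∃ w : G, w * w = 1 ∧ w ≠ 1 ∧ w * x * w⁻¹ = x⁻¹) ∨
      ∃ M : Subgroup G, M.Normal ∧ ¬ 3 ∣ Nat.card M ∧ Nat.card G = 3 * Nat.card M := by
  haveI : Fact (Nat.Prime 3) := ⟨Nat.prime_three⟩
  by_cases hw : ∃ w : G, w * x * w⁻¹ = x⁻¹
  · obtain ⟨w, hw⟩ := hw
    left
    have hw2 : w * w ∈ zpowers x := h.cent _ (by
      show w * w * x = x * (w * w)
      calc w * w * x = w * (w * x * w⁻¹) * w⁻¹ * (w * w) := by group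
        _ = x * (w * w) := by
          rw [hw, show w * x⁻¹ * w⁻¹ = (w * x * w⁻¹)⁻¹ by group, hw, inv_inv])
    have hne : x ≠ x⁻¹ := fun e0 => by
      have h2 : orderOf x ∣ 2 := orderOf_dvd_of_pow_eq_one (by
        rw [pow_two]; nth_rewrite 2 [e0]; exact mul_inv_cancel x)
      rw [h.ord] at h2; omega
    refine ⟨w, ?_, fun e => hne (by rw [e] at hw; simpa using hw), hw⟩
    rcases h.cases hw2 with e | e | e
    · exact e
    · exfalso
      have h1 : w * (w * w) * w⁻¹ = w * w := by group
      rw [e, hw] at h1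
      exact hne h1.symm
    · exfalso
      have h1 : w * (w * w) * w⁻¹ = w * w := by group
      rw [e, show w * x⁻¹ * w⁻¹ = (w * x * w⁻¹)⁻¹ by group, hw, inv_inv] at h1
      exact hne h1
  · right
    push Not at hw
    have hP : IsPGroup 3 (zpowers x) := IsPGroup.of_card (n := 1) (by rw [h.card_zpowers, pow_one])
    obtain ⟨P, hle⟩ := hP.exists_le_sylow
    have hPc : Nat.card (P : Subgroup G) = 3 := by
      obtain ⟨n, hn⟩ := IsPGroup.iff_card.1 P.2
      have h3 : 3 ∣ Nat.card (P : Subgroup G) := by have := card_dvd_of_le hle; rwa [h.card_zpowers] at this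
      have h9 : ¬ 3 ^ 2 ∣ Nat.card (P : Subgroup G) := fun e =>
        h.nine_not_dvd (by simpa using e.trans (card_subgroup_dvd_card _))
      rcases n with _ | _ | n
      · rw [hn] at h3; norm_num at h3
      · simpa using hn
      · refine absurd ?_ h9
        rw [hn]; exact pow_dvd_pow 3 (by omega)
    have hPx : (P : Subgroup G) = zpowers x :=
      (eq_of_le_of_card_ge hle (by rw [hPc, h.card_zpowers])).symm
    have hN : normalizer ((P : Subgroup G) : Set G) ≤ centralizer ((P : Subgroup G) : Set G) := by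
      rw [hPx]
      intro g hg
      refine mem_centralizer_iff.2 fun y hy => ?_
      obtain ⟨k, rfl⟩ := mem_zpowers_iff.1 hy
      refine ((show Commute g x from ?_).zpow_right k).eq.symm
      rcases h.cases ((mem_normalizer_iff.1 hg x).1 (mem_zpowers x)) with e | e | e
      · exact absurd (by simpa using e) h.ne_one
      · exact mul_inv_eq_iff_eq_mul.1 e
      · exact absurd e (hw g)
    refine ⟨(MonoidHom.transferSylow P hN).ker, inferInstance,
      MonoidHom.not_dvd_card_ker_transferSylow P hN, ?_⟩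
    have := (MonoidHom.ker_transferSylow_isComplement' P hN).card_mul
    rw [hPc] at this
    omega

theorem exists_max {L : Subgroup G} (hL : Inv x L) (hL1 : L ≠ ⊥) : ∃ K, IsMax x K ∧ L ≤ K := by
  obtain ⟨K, hLK, hK⟩ := Finite.exists_le_maximal (p := fun K : Subgroup G => Inv x K) hL
  exact ⟨K, ⟨hK.1, fun e => hL1 (le_bot_iff.1 (e ▸ hLK)), fun M hM hKM => le_antisymm (hK.2 hM hKM) hKM⟩,
    hLK⟩

theorem mem_of_orderOf_three_centralizes {D : Subgroup G} (h : Hyp x) (hD : Inv x D) (hD1 : D ≠ ⊥) :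
    Inv x (centralizer (D : Set G)) := by
  refine ⟨?_, fun e3 => ?_⟩
  · rw [mem_normalizer_iff]
    intro a
    simp only [mem_centralizer_iff, SetLike.mem_coe]
    have hd : ∀ b ∈ D, x⁻¹ * b * x ∈ D := fun b hb => by
      simpa using (mem_normalizer_iff.1 (inv_mem hD.norm) b).1 hb
    constructor
    · intro ha b hb
      calc b * (x * a * x⁻¹) = x * (x⁻¹ * b * x * a) * x⁻¹ := by group
        _ = x * a * x⁻¹ * b := by rw [ha _ (hd b hb)]; group
    · intro ha b hb
      calc b * a = x⁻¹ * (x * b * x⁻¹ * (x * a * x⁻¹)) * x := by group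
        _ = a * b := by rw [ha _ (hD.conj_mem hb)]; group
  · haveI : Fact (Nat.Prime 3) := ⟨Nat.prime_three⟩
    obtain ⟨⟨y, hy⟩, hyo⟩ := exists_prime_orderOf_dvd_card' 3 e3
    rw [orderOf_mk] at hyo
    obtain ⟨g, hg, hgy⟩ := h.conj_of_orderOf (H := normalizer (D : Set G)) hD.norm
      (centralizer_le_normalizer (D : Set G) hy) hyo
    apply hD1
    rw [eq_bot_iff_forall]
    intro b hb
    refine hD.fixed h hb ?_
    have hb' : g * b * g⁻¹ ∈ D := (mem_normalizer_iff.1 hg b).1 hb
    have hc : Commute (g * b * g⁻¹) y := mem_centralizer_iff.1 hy _ hb'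
    have hc2 : Commute b (g⁻¹ * y * g) := by
      have e := hc.map (MulAut.conj g⁻¹).toMonoidHom
      simp only [MulEquiv.coe_toMonoidHom, MulAut.conj_apply, inv_inv] at e
      rwa [show g⁻¹ * (g * b * g⁻¹) * g = b by group] at e
    rcases hgy with e | e
    · rwa [e, show g⁻¹ * (g * x * g⁻¹) * g = x by group] at hc2
    · rw [e, show g⁻¹ * (g * x⁻¹ * g⁻¹) * g = x⁻¹ by group] at hc2
      simpa using hc2.inv_right

variable [IsSimpleGroup G] (h : Hyp x) (hloc : Local x)

include h

omit [Finite G] in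
theorem normalizer_ne_top {D : Subgroup G} (hD : Inv x D) (hD1 : D ≠ ⊥) :
    normalizer (D : Set G) ≠ ⊤ := fun e => by
  haveI : D.Normal := normalizer_eq_top_iff.1 e
  rcases (show D.Normal from inferInstance).eq_bot_or_eq_top with e0 | e0
  · exact hD1 e0
  · exact hD.not_mem h (e0 ▸ mem_top x)

include hloc

/-- The two possible shapes of the normaliser of an invariant subgroup. -/
theorem localShape {D : Subgroup G} (hD : Inv x D) (hD1 : D ≠ ⊥) :
    (∃ O : Subgroup G, Inv x O ∧ O ≤ normalizer (D : Set G) ∧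
      normalizer (D : Set G) ≤ normalizer (O : Set G) ∧
      (∀ L, Inv x L → L ≤ normalizer (D : Set G) → L ≤ O) ∧
      (Nat.card (normalizer (D : Set G)) = 3 * Nat.card O ∨
        Nat.card (normalizer (D : Set G)) = 6 * Nat.card O)) ∨
    (∃ E : Subgroup G, IsPGroup 2 E ∧ D ≤ E ∧
      (∃ L, Inv x L ∧ E < L) ∧
      ∀ L, Inv x L → L ≤ normalizer (D : Set G) → Odd (E.relIndex L) → L ≤ E) := by
  set H := normalizer (D : Set G) with hH
  have hxH : x ∈ H := hD.norm
  have hsub : ∀ L, Inv x L → L ≤ H → Inv (⟨x, hxH⟩ : H) (L.subgroupOf H) := by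
    intro L hL hle
    refine ⟨?_, by rw [Nat.card_congr (subgroupOfEquivOfLe hle).toEquiv]; exact hL.cop⟩
    rw [mem_normalizer_iff]
    intro a
    simp only [mem_subgroupOf, coe_mul, coe_inv]
    exact mem_normalizer_iff.1 hL.norm a
  haveI hDn : (D.subgroupOf H).Normal := normal_in_normalizer
  have hD1' : D.subgroupOf H ≠ ⊥ := fun e => hD1 (by
    rw [subgroupOf_eq_bot] at e
    exact le_bot_iff.1 (e le_rfl le_normalizer))
  have hcop : ¬ 3 ∣ Nat.card (D.subgroupOf H) := by
    rw [Nat.card_congr (subgroupOfEquivOfLe (le_normalizer (H := D))).toEquiv]; exact hD.cop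
  rcases Dich.of_normal (h.subgroup hxH) (hloc H (normalizer_ne_top h hD hD1) hxH) hD1' hcop with
    ⟨O, hOn, hO3, hOL, hOc⟩ | ⟨E, hEn, hE2, hDE, ⟨L₀, hL₀, hlt⟩, hEL⟩
  · left
    have hle : O.map H.subtype ≤ H := map_subtype_le O
    have hnorm : H ≤ normalizer ((O.map H.subtype : Subgroup G) : Set G) := by
      have e : (O.map H.subtype).subgroupOf H = O := comap_map_eq_self_of_injective H.subtype_injective O
      exact (normal_subgroupOf_iff_le_normalizer hle).1 (by rw [e]; exact hOn)
    refine ⟨O.map H.subtype, ⟨hnorm hxH, ?_⟩, hle, hnorm, fun L hL hLH => ?_, ?_⟩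
    · rwa [card_map_of_injective H.subtype_injective]
    · rw [← map_subgroupOf_eq_of_le hLH]
      exact map_mono (hOL _ (hsub L hL hLH))
    · rwa [card_map_of_injective H.subtype_injective]
  · right
    refine ⟨E.map H.subtype, hE2.map _, ?_, ⟨L₀.map H.subtype, ⟨?_, ?_⟩, ?_⟩, fun L hL hLH hodd => ?_⟩
    · rw [← map_subgroupOf_eq_of_le (le_normalizer (H := D))]
      exact map_mono hDE
    · exact le_normalizer_map H.subtype (mem_map_of_mem H.subtype hL₀.norm)
    · rw [card_map_of_injective H.subtype_injective]; exact hL₀.cop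
    · exact (map_lt_map_iff_of_injective H.subtype_injective).2 hlt
    · rw [← map_subgroupOf_eq_of_le hLH] at hodd ⊢
      rw [relIndex_map_map_of_injective _ _ H.subtype_injective] at hodd
      exact map_mono (hEL _ (hsub L hL hLH) hodd)

/-- A maximal invariant subgroup normalising a suitable subgroup of itself is its core there. -/
theorem IsMax.normalizer_eq {K D : Subgroup G} (hK : IsMax x K) (hD : Inv x D) (hD1 : D ≠ ⊥)
    (hle : D ≤ K) (hKD : K ≤ normalizer (D : Set G)) (hND : normalizer (K : Set G) ≤ normalizer (D : Set G))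
    (hodd : ¬ IsPGroup 2 D ∨ Odd (D.relIndex K)) :
    normalizer (D : Set G) = normalizer (K : Set G) ∧
      (Nat.card (normalizer (K : Set G)) = 3 * Nat.card K ∨
        Nat.card (normalizer (K : Set G)) = 6 * Nat.card K) ∧
      ∀ L, Inv x L → L ≤ normalizer (K : Set G) → L ≤ K := by
  rcases localShape h hloc hD hD1 with ⟨O, hO, -, hON, hOL, hOc⟩ | ⟨E, hE, hDE, ⟨L, hL, hlt⟩, hEL⟩
  · have hOK : O = K := hK.max O hO (hOL K hK.inv hKD)
    subst hOK
    have e := le_antisymm hON hND
    exact ⟨e, e ▸ hOc, fun L hL hLN => hOL L hL (hLN.trans hND)⟩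
  · exfalso
    rcases hodd with hodd | hodd
    · exact hodd (hE.to_le hDE)
    · have hKE : K ≤ E := hEL K hK.inv hKD (Odd.of_dvd_nat hodd (relIndex_dvd_of_le_left K hDE))
      have := hK.max L hL (hKE.trans hlt.le)
      exact absurd (this ▸ hlt : E < K) (not_lt_of_ge hKE)

theorem IsMax.card_normalizer {K : Subgroup G} (hK : IsMax x K) :
    (Nat.card (normalizer (K : Set G)) = 3 * Nat.card K ∨
        Nat.card (normalizer (K : Set G)) = 6 * Nat.card K) ∧
      ∀ L, Inv x L → L ≤ normalizer (K : Set G) → L ≤ K :=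
  (hK.normalizer_eq h hloc hK.inv hK.ne_bot le_rfl le_normalizer le_rfl
    (Or.inr (by rw [relIndex_self]; exact odd_one))).2

omit hloc in
omit [IsSimpleGroup G] in
/-- The Sylow subgroups of a nilpotent invariant subgroup. -/
theorem Inv.exists_part {K : Subgroup G} (hK : Inv x K) {p : ℕ} [Fact p.Prime] (hp : p ∣ Nat.card K) :
    ∃ D : Subgroup G, D ≤ K ∧ IsPGroup p D ∧ D ≠ ⊥ ∧ Inv x D ∧
      normalizer (K : Set G) ≤ normalizer (D : Set G) ∧ ¬ p ∣ D.relIndex K := by
  haveI := hK.nilpotent h
  obtain ⟨P⟩ : Nonempty (Sylow p K) := inferInstance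
  haveI : (P : Subgroup K).Characteristic := P.characteristic_of_normal inferInstance
  have hle : (P : Subgroup K).map K.subtype ≤ K := map_subtype_le _
  have hnorm : normalizer (K : Set G) ≤ normalizer (((P : Subgroup K).map K.subtype : Subgroup G) : Set G) := by
    intro g hg
    rw [mem_normalizer_iff_conjOf]
    let e : K ≃* K := ((MulAut.conj g).subgroupMap K).trans
      (MulEquiv.subgroupCongr (mem_normalizer_iff_map_conj_eq.1 hg))
    have he : (P : Subgroup K).map e.toMonoidHom = P := characteristic_iff_map_eq.1 inferInstance e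
    conv_rhs => rw [← he]
    rw [conjOf, map_map, map_map]
    rfl
  refine ⟨_, hle, P.2.map _, ?_, ⟨hnorm hK.norm, ?_⟩, hnorm, ?_⟩
  · rw [ne_eq, map_eq_bot_iff_of_injective _ K.subtype_injective]
    exact P.ne_bot_of_dvd_card hp
  · exact fun e => hK.cop (e.trans (card_dvd_of_le hle))
  · rw [relIndex, show ((P : Subgroup K).map K.subtype).subgroupOf K = P from
      comap_map_eq_self_of_injective K.subtype_injective _]
    exact P.not_dvd_index

/-- Full facts about a Sylow part of a maximal invariant subgroup. -/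
theorem IsMax.exists_part {K : Subgroup G} (hK : IsMax x K) {p : ℕ} [Fact p.Prime]
    (hp : p ∣ Nat.card K) :
    ∃ D : Subgroup G, D ≤ K ∧ IsPGroup p D ∧
      normalizer (D : Set G) = normalizer (K : Set G) ∧
      ((p ≠ 2 ∨ Nat.card (normalizer (K : Set G)) = 3 * Nat.card K) →
        ∃ P : Sylow p G, (P : Subgroup G) = D) := by
  obtain ⟨D, hDK, hDp, hD1, hDI, hDN, hrel⟩ := hK.inv.exists_part h hp
  have hp3 : p ≠ 3 := by rintro rfl; exact hK.inv.cop hp
  have hodd : ¬ IsPGroup 2 D ∨ Odd (D.relIndex K) := by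
    by_cases h2 : p = 2
    · right; subst h2; rw [Nat.odd_iff]; omega
    · left
      intro h'
      apply hD1
      rw [← card_eq_one]
      haveI : Fact (Nat.Prime 2) := ⟨Nat.prime_two⟩
      exact Nat.eq_one_of_dvd_coprimes
        (IsPGroup.coprime_card_of_ne p 2 h2 D D hDp h') dvd_rfl dvd_rfl
  have hN := (hK.normalizer_eq h hloc hDI hD1 hDK (le_normalizer.trans hDN) hDN hodd)
  refine ⟨D, hDK, hDp, hN.1, fun hcase => ?_⟩
  obtain ⟨n, hn⟩ := IsPGroup.iff_card.1 hDp
  refine ⟨Sylow.ofCard D ?_, rfl⟩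
  have hdvd : p ^ n ∣ Nat.card G := hn ▸ card_subgroup_dvd_card D
  rw [Nat.Prime.pow_dvd_iff_le_factorization Fact.out Nat.card_pos.ne'] at hdvd
  rw [hn]
  by_contra hne
  have hlt : n + 1 ≤ (Nat.card G).factorization p :=
    Nat.lt_of_le_of_ne hdvd (fun e => hne (by rw [e]))
  rw [← Nat.Prime.pow_dvd_iff_le_factorization Fact.out Nat.card_pos.ne'] at hlt
  have hq := Sylow.prime_dvd_card_quotient_normalizer hlt hn
  have hcq := card_eq_card_quotient_mul_card_subgroup (D.subgroupOf (normalizer (D : Set G)))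
  rw [Nat.card_congr (subgroupOfEquivOfLe (le_normalizer (H := D))).toEquiv] at hcq
  obtain ⟨k, hk⟩ := hq
  rw [comap_subtype] at hk
  rw [hk, hN.1] at hcq
  have hKD : D.relIndex K * Nat.card D = Nat.card K := by
    rw [← Nat.card_congr (subgroupOfEquivOfLe hDK).toEquiv]
    exact (D.subgroupOf K).index_mul_card
  have hDpos : 0 < Nat.card D := Nat.card_pos
  rcases hN.2.1 with e | e
  · rw [e, ← hKD] at hcq
    have h' : 3 * D.relIndex K = p * k := Nat.eq_of_mul_eq_mul_right hDpos (by linarith)
    rcases (Fact.out : p.Prime).dvd_mul.1 ⟨k, h'⟩ with hh | hh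
    · exact hp3 ((Nat.prime_dvd_prime_iff_eq Fact.out Nat.prime_three).1 hh)
    · exact hrel hh
  · rcases hcase with hp2 | e'
    · rw [e, ← hKD] at hcq
      have h' : 2 * (3 * D.relIndex K) = p * k := Nat.eq_of_mul_eq_mul_right hDpos (by linarith)
      rcases (Fact.out : p.Prime).dvd_mul.1 ⟨k, h'⟩ with hh | hh
      · exact hp2 ((Nat.prime_dvd_prime_iff_eq Fact.out Nat.prime_two).1 hh)
      rcases (Fact.out : p.Prime).dvd_mul.1 hh with hh | hh
      · exact hp3 ((Nat.prime_dvd_prime_iff_eq Fact.out Nat.prime_three).1 hh)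
      · exact hrel hh
    · have : 0 < Nat.card K := Nat.card_pos
      omega

end CfsgLib.Recognition.SelfCentThree
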